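import Groth.Agent.Lib.RankLoc10.Main
import Groth.Agent.Lib.PushUnit3.Basic
import Groth.Agent.Lib.ResDesc11.Basic
import Groth.Agent.Lib.DetDeg13.Basis
import Groth.Agent.Lib.TensorMod.PullSupport

/-!
# Modules with bases over inverse images of opens of the base

A module on `X` is pulled back from the base along `p : X ⟶ T` exactly when it has bases over inverse images of opens
of `T`, once `O_T = p_* O_X`.
-/

set_option autoImplicit false
set_option linter.style.haveILetI false
set_option backward.isDefEq.respectTransparency false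
set_option backward.isDefEq.respectTransparency.types false

universe u
open CategoryTheory CategoryTheory.Limits AlgebraicGeometry TopologicalSpace
open scoped TensorProduct

noncomputable section

namespace Groth.Agent.RankLoc10

open Groth.Agent.M1 Groth.Agent.P1Split

/-- The rank at a point. -/
def rk {X : Scheme.{u}} (M : X.Modules) (x : X) : ℕ :=
  Module.finrank (X.presheaf.stalk x) (M.presheaf.stalk x)

section Rank

variable {X Y : Scheme.{u}} {r : ℕ}

theorem rk_eq_of_isBas {M : X.Modules} {U : X.Opens} {e : Fin r → Γ(M, U)} (he : IsBas M U e) {x : X} (hx : x ∈ U) :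
    rk M x = r := by
  let q : (Fin r → X.presheaf.stalk x) ≃ₗ[X.presheaf.stalk x] M.presheaf.stalk x :=
    LinearEquiv.ofBijective (Fintype.linearCombination (X.presheaf.stalk x)
      fun i => (M.presheaf.germ U x hx (e i) : M.presheaf.stalk x)) (he.stalk hx)
  exact (q.finrank_eq.symm).trans (Module.finrank_fin_fun _)

theorem isLocallyConstant_rk {M : X.Modules} (hM : FlatMod.IsFinLocFree M) : IsLocallyConstant (rk M) := by
  refine (IsLocallyConstant.iff_exists_open _).2 fun x => ?_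
  obtain ⟨n, D, e, hxD, he⟩ := PushUnit3.exists_isBas_nhd' hM x
  exact ⟨D, D.2, hxD, fun y hy => (rk_eq_of_isBas he hy).trans (rk_eq_of_isBas he hxD).symm⟩

theorem isFinLocFreeOfRank_of_rk {M : X.Modules} (hM : FlatMod.IsFinLocFree M) (h : ∀ x, rk M x = r) :
    FlatMod.IsFinLocFreeOfRank r M := fun x => by
  obtain ⟨n, D, e, hxD, he⟩ := PushUnit3.exists_isBas_nhd' hM x
  obtain rfl : n = r := (rk_eq_of_isBas he hxD).symm.trans (h x)
  exact ⟨D, hxD, ResDesc11.nonempty_restrict_iso_free he⟩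

theorem rk_pullback {M : X.Modules} (hM : FlatMod.IsFinLocFree M) (g : Y ⟶ X) (y : Y) :
    rk ((Scheme.Modules.pullback g).obj M) y = rk M (g y) := by
  obtain ⟨n, D, e, hxD, he⟩ := PushUnit3.exists_isBas_nhd' hM (g y)
  rw [rk_eq_of_isBas he hxD]
  exact rk_eq_of_isBas (AmpleFin18.isBas_pullback g he) (show y ∈ g ⁻¹ᵁ D from hxD)

theorem rk_congr {M M' : X.Modules} (φ : M ≅ M') (hM : FlatMod.IsFinLocFree M) (x : X) : rk M' x = rk M x := by
  obtain ⟨n, D, e, hxD, he⟩ := PushUnit3.exists_isBas_nhd' hM x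
  rw [rk_eq_of_isBas he hxD]
  exact rk_eq_of_isBas (he.map_iso φ) hxD

/-- Moving a basis along an equality of opens. -/
theorem isBas_mres_of_le {M : X.Modules} {U V : X.Opens} {e : Fin r → Γ(M, U)} (he : IsBas M U e) (h : V ≤ U) :
    IsBas M V (fun i => mres M h (e i)) := he.mres h

end Rank

variable {X T : Scheme.{u}}

/-- Sections of `O_X` over inverse images are sections of `O_T`. -/
def AppIso (p : X ⟶ T) : Prop := ∀ U : T.Opens, Function.Bijective (p.app U)

/-- `M` has a basis of `r` sections over the inverse image of a neighbourhood of `t`. -/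
def Triv (p : X ⟶ T) (M : X.Modules) (r : ℕ) (t : T) : Prop :=
  ∃ (D : T.Opens) (b : Fin r → Γ(M, p ⁻¹ᵁ D)), t ∈ D ∧ IsBas M (p ⁻¹ᵁ D) b

variable {p : X ⟶ T} {M : X.Modules} {r : ℕ}

theorem Triv.map_iso {M' : X.Modules} {t : T} (h : Triv p M r t) (φ : M ≅ M') : Triv p M' r t := by
  obtain ⟨D, b, ht, hb⟩ := h
  exact ⟨D, _, ht, hb.map_iso φ⟩

theorem Triv.rk {t : T} (h : Triv p M r t) {x : X} (hx : p x = t) : rk M x = r := by
  obtain ⟨D, b, ht, hb⟩ := h
  exact rk_eq_of_isBas hb (show p x ∈ D by rw [hx]; exact ht)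

/-- Pulled back modules are trivial locally on the base. -/
theorem exists_triv_of_iso {N : T.Modules} (hN : FlatMod.IsFinLocFree N)
    (φ : (Scheme.Modules.pullback p).obj N ≅ M) (t : T) : ∃ n, Triv p M n t := by
  obtain ⟨n, D, e, htD, he⟩ := PushUnit3.exists_isBas_nhd' hN t
  exact ⟨n, D, _, htD, (AmpleFin18.isBas_pullback p he).map_iso φ⟩

/-- The basis of the direct image. -/
theorem isBas_push (hp : AppIso p) {D : T.Opens} {b : Fin r → Γ(M, p ⁻¹ᵁ D)} (hb : IsBas M (p ⁻¹ᵁ D) b) :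
    IsBas ((Scheme.Modules.pushforward p).obj M) D b := fun V hV =>
  (hb (p ⁻¹ᵁ V) (p.preimage_mono hV)).comp ((Equiv.piCongrRight fun _ => Equiv.ofBijective _ (hp V)).bijective)

theorem Triv.isBas_push_nhd (hp : AppIso p) {t : T} (h : Triv p M r t) :
    ∃ (D : T.Opens) (b : Fin r → Γ((Scheme.Modules.pushforward p).obj M, D)), t ∈ D ∧
      IsBas ((Scheme.Modules.pushforward p).obj M) D b := by
  obtain ⟨D, b, ht, hb⟩ := h
  exact ⟨D, b, ht, isBas_push hp hb⟩

theorem counit_app_pullSec (p : X ⟶ T) (M : X.Modules) {V : T.Opens}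
    (s : Γ((Scheme.Modules.pushforward p).obj M, V)) :
    ((Scheme.Modules.pullbackPushforwardAdjunction p).counit.app M).app (p ⁻¹ᵁ V)
      (M2.pullSec p ((Scheme.Modules.pushforward p).obj M) s) = (s : Γ(M, p ⁻¹ᵁ V)) :=
  congr(($((Scheme.Modules.pullbackPushforwardAdjunction p).right_triangle_components M)).app V s)

/-- Locally trivial modules are pulled back. -/
theorem exists_iso_of_triv (hp : AppIso p) (h : ∀ t, ∃ n, Triv p M n t) :
    ∃ N : T.Modules, FlatMod.IsFinLocFree N ∧ Nonempty ((Scheme.Modules.pullback p).obj N ≅ M) := by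
  choose n D b ht hb using h
  let N := (Scheme.Modules.pushforward p).obj M
  have hN : ∀ t, IsBas N (D t) (b t) := fun t => isBas_push hp (hb t)
  let ε := (Scheme.Modules.pullbackPushforwardAdjunction p).counit.app M
  haveI : IsIso ε := by
    refine CBC10.isIso_of_affine_basis ε (fun W => ∃ t, W ≤ p ⁻¹ᵁ D t) (fun O x hx => ?_) fun W hW => ?_
    · exact ⟨O ⊓ p ⁻¹ᵁ D (p x), ⟨p x, inf_le_right⟩, ⟨hx, ht (p x)⟩, inf_le_left⟩
    · obtain ⟨t, hW⟩ := hW
      have hs := AmpleFin18.isBas_pullback p (hN t) W hW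
      refine (hs.of_comp_iff _).1 ?_
      rw [show ⇑(ε.app W) ∘ (fun c : Fin (n t) → Γ(X, W) => ∑ l, c l • mres ((Scheme.Modules.pullback p).obj N) hW
          (M2.pullSec p N (b t l))) = fun c => ∑ l, c l • mres M hW (b t l) from funext fun c => by
        simp only [Function.comp_apply, app_sum_smul]
        refine Finset.sum_congr rfl fun l _ => congrArg (c l • ·) ?_
        exact (app_mres ε hW _).trans (congrArg (mres M hW) (counit_app_pullSec p M (b t l)))]
      exact hb t W hW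
  exact ⟨N, ResDesc11.isFinLocFree_of_isBas fun t => ⟨n t, D t, b t, ht t, hN t⟩, ⟨asIso ε⟩⟩

variable {X' T' : Scheme.{u}} {g' : X' ⟶ X} {p' : X' ⟶ T'} {g : T' ⟶ T}

/-- Bases pull back along a square. -/
theorem exists_isBas_pull (w : g' ≫ p = p' ≫ g) {D : T.Opens} {b : Fin r → Γ(M, p ⁻¹ᵁ D)}
    (hb : IsBas M (p ⁻¹ᵁ D) b) :
    IsBas ((Scheme.Modules.pullback g').obj M) (p' ⁻¹ᵁ (g ⁻¹ᵁ D))
      (fun i => ModLimH13.res' g' M (CBC10.le_preimage_of_le (w := w) (le_refl (g ⁻¹ᵁ D))) (b i)) :=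
  (AmpleFin18.isBas_pullback g' hb).mres _

theorem Triv.pull (w : g' ≫ p = p' ≫ g) {t : T'} (h : Triv p M r (g t)) :
    Triv p' ((Scheme.Modules.pullback g').obj M) r t := by
  obtain ⟨D, b, ht, hb⟩ := h
  exact ⟨g ⁻¹ᵁ D, _, ht, exists_isBas_pull w hb⟩

/-- Trivial families have universally locally free direct images. -/
theorem good_of_triv (hp : AppIso p)
    (hu : ∀ ⦃X' T' : Scheme.{u}⦄ (g' : X' ⟶ X) (p' : X' ⟶ T') (g : T' ⟶ T), IsPullback g' p' p g → AppIso p')
    (h : ∀ t, Triv p M r t) : Good p M r := by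
  choose D b ht hb using h
  refine ⟨fun t => ⟨D t, ht t, ResDesc11.nonempty_restrict_iso_free (isBas_push hp (hb t))⟩,
    fun X' T' g' p' g hsq => ?_⟩
  refine isIso_of_bases _ (fun t => g ⁻¹ᵁ D t)
    (top_le_iff.1 fun z _ => Opens.mem_iSup.2 ⟨g z, ht (g z)⟩)
    (fun t i => M2.pullSec g _ (b t i))
    (fun t i => ModLimH13.res' g' M (CBC10.le_preimage_of_le (w := hsq.w) (le_refl (g ⁻¹ᵁ D t))) (b t i))
    (fun t => AmpleFin18.isBas_pullback g (isBas_push hp (hb t)))
    (fun t => isBas_push (hu g' p' g hsq) (exists_isBas_pull hsq.w (hb t))) fun t i => ?_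
  have := CBC10.bc0_res' hsq.w M (le_refl (g ⁻¹ᵁ D t)) (b t i)
  rw [show ModLimH13.res' g ((Scheme.Modules.pushforward p).obj M) (le_refl (g ⁻¹ᵁ D t)) (b t i) = M2.pullSec g _ (b t i) from
    mres_id _ _ _] at this
  exact this

/-- After a trivial base change a basis of the direct image gives bases of the stalks. -/
theorem bijective_germ (hM : FlatMod.IsFinLocFreeOfRank r M) (hgood : Good p M r) (hsq : IsPullback g' p' p g)
    {t : T'} (h : Triv p' ((Scheme.Modules.pullback g').obj M) r t) {D : T.Opens}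
    {e : Fin r → Γ((Scheme.Modules.pushforward p).obj M, D)} (he : IsBas ((Scheme.Modules.pushforward p).obj M) D e)
    (hyD : g t ∈ D) (x : X) (hx : p x = g t) :
    Function.Bijective (Fintype.linearCombination (X.presheaf.stalk x)
      fun i => (M.presheaf.germ (p ⁻¹ᵁ D) x (show p x ∈ D by rw [hx]; exact hyD) (e i) : M.presheaf.stalk x)) := by
  obtain ⟨D'', b'', htD'', hb''⟩ := h
  let M' := (Scheme.Modules.pullback g').obj M
  haveI := hgood.2 g' p' g hsq
  let φ := asIso (CohBC.bc0 p g p' g' hsq.w M)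
  have hpe := (AmpleFin18.isBas_pullback g he).map_iso φ
  obtain ⟨z, hz₁, hz₂⟩ := Scheme.Pullback.exists_preimage_pullback x t hx
  let z' := hsq.isoPullback.inv z
  have h1 : g' z' = x := by
    rw [← Scheme.Hom.comp_apply, IsPullback.isoPullback_inv_fst]; exact hz₁
  have h2 : p' z' = t := by
    rw [← Scheme.Hom.comp_apply, IsPullback.isoPullback_inv_snd]; exact hz₂
  subst h1
  set A := X.presheaf.stalk (g' z') with hA
  set B := X'.presheaf.stalk z' with hB
  let W : T'.Opens := g ⁻¹ᵁ D ⊓ D''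
  have hW : t ∈ W := ⟨hyD, htD''⟩
  have hzW : z' ∈ p' ⁻¹ᵁ W := show p' z' ∈ W from h2.symm ▸ hW
  have hzD : z' ∈ g' ⁻¹ᵁ (p ⁻¹ᵁ D) := show p (g' z') ∈ D from hx ▸ hyD
  let v : Fin r → (M'.presheaf.stalk z' : Type u) := fun i =>
    M'.presheaf.germ (g' ⁻¹ᵁ (p ⁻¹ᵁ D)) z' hzD (M2.pullSec g' M (e i))
  have hv : Submodule.span B (Set.range v) = ⊤ := by
    refine eq_top_iff.2 fun a _ => ?_
    obtain ⟨c, hc⟩ := ((hb''.mres (p'.preimage_mono (inf_le_right : W ≤ D''))).stalk hzW).2 a
    rw [← hc]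
    refine Submodule.sum_mem _ fun j _ => Submodule.smul_mem _ _ ?_
    obtain ⟨a', ha'⟩ := (hpe W inf_le_left).2
      (mres M' (p'.preimage_mono (inf_le_right : W ≤ D'')) (b'' j) : Γ((Scheme.Modules.pushforward p').obj M', W))
    rw [← ha']
    have hφ : ∀ i, φ.hom.app (g ⁻¹ᵁ D) (M2.pullSec g _ (e i)) =
        ModLimH13.res' g' M (CBC10.le_preimage_of_le (w := hsq.w) (le_refl (g ⁻¹ᵁ D))) (e i) := fun i => by
      have := CBC10.bc0_res' hsq.w M (le_refl (g ⁻¹ᵁ D)) (e i)
      rw [show ModLimH13.res' g ((Scheme.Modules.pushforward p).obj M) (le_refl (g ⁻¹ᵁ D)) (e i) = M2.pullSec g _ (e i) from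
        mres_id _ _ _] at this
      exact this
    show M'.presheaf.germ (p' ⁻¹ᵁ W) z' hzW (∑ i, p'.app W (a' i) • mres M' (p'.preimage_mono inf_le_left)
      (φ.hom.app (g ⁻¹ᵁ D) (M2.pullSec g _ (e i)))) ∈ _
    rw [germ_sum_smul]
    refine Submodule.sum_mem _ fun i _ => Submodule.smul_mem _ _ (Submodule.subset_span ⟨i, ?_⟩)
    rw [hφ]
    show v i = M'.presheaf.germ (p' ⁻¹ᵁ W) z' hzW (mres M' _ (mres M' _ (M2.pullSec g' M (e i))))
    rw [germ_mres, germ_mres]
  let Φ : (Fin r → A) →ₗ[A] (M.presheaf.stalk (g' z') : Type u) := Fintype.linearCombination A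
    fun i => (M.presheaf.germ (p ⁻¹ᵁ D) (g' z') (show p (g' z') ∈ D from hx ▸ hyD) (e i) : M.presheaf.stalk (g' z'))
  show Function.Bijective Φ
  obtain ⟨D₀, e₀, hxD₀, he₀⟩ := exists_isBas_nhd hM (g' z')
  let q : (Fin r → A) ≃ₗ[A] (M.presheaf.stalk (g' z') : Type u) :=
    LinearEquiv.ofBijective (Fintype.linearCombination A
      fun i => (M.presheaf.germ D₀ (g' z') hxD₀ (e₀ i) : M.presheaf.stalk (g' z'))) (he₀.stalk hxD₀)
  haveI : Module.Finite A (M.presheaf.stalk (g' z') : Type u) := Module.Finite.equiv q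
  haveI : IsLocalHom (algebraMap A B) := inferInstanceAs (IsLocalHom (g'.stalkMap z').hom)
  have hsurj : Function.Surjective Φ := by
    rw [← LinearMap.range_eq_top, ← Submodule.Quotient.subsingleton_iff]
    let Q := (M.presheaf.stalk (g' z') : Type u) ⧸ LinearMap.range Φ
    haveI : Subsingleton (B ⊗[A] Q) := by
      let π : B ⊗[A] (M.presheaf.stalk (g' z') : Type u) →ₗ[B] B ⊗[A] Q :=
        (LinearMap.range Φ).mkQ.baseChange B
      have hπ : Function.Surjective π := by
        intro y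
        obtain ⟨y', hy'⟩ := LinearMap.lTensor_surjective B (Submodule.mkQ_surjective (LinearMap.range Φ)) y
        exact ⟨y', by rw [← hy']; exact congrFun (LinearMap.baseChange_eq_ltensor _) y'⟩
      have hle : Submodule.span B (Set.range v) ≤
          (LinearMap.ker π).map (M2.pullStalkEquiv g' z' M).toLinearMap := by
        refine Submodule.span_le.2 ?_
        rintro _ ⟨i, rfl⟩
        refine ⟨1 ⊗ₜ M.presheaf.germ (p ⁻¹ᵁ D) (g' z') hzD (e i), ?_,
          M2.pullStalkEquiv_tmul g' z' M hzD (e i)⟩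
        refine LinearMap.mem_ker.2 ((LinearMap.baseChange_tmul (LinearMap.range Φ).mkQ (1 : B) _).trans ?_)
        have hmem : (M.presheaf.germ (p ⁻¹ᵁ D) (g' z') hzD (e i) : M.presheaf.stalk (g' z')) ∈ LinearMap.range Φ :=
          LinearMap.mem_range.2 ⟨Pi.single i 1, by simp [Φ]⟩
        exact (congrArg (((1 : B)) ⊗ₜ[A] ·) ((Submodule.Quotient.mk_eq_zero (LinearMap.range Φ)).2 hmem)).trans
          (TensorProduct.tmul_zero _ _)
      refine subsingleton_of_forall_eq 0 fun y => ?_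
      obtain ⟨y', rfl⟩ := hπ y
      obtain ⟨w, hw, hwy⟩ := hle (hv ▸ (Submodule.mem_top : M2.pullStalkEquiv g' z' M y' ∈ ⊤))
      rw [← (M2.pullStalkEquiv g' z' M).injective hwy]
      exact hw
    exact M2.subsingleton_of_baseChange_local (A := A) (B := B) Q
  have : Function.Bijective (q.symm.toLinearMap.comp Φ) :=
    OrzechProperty.bijective_of_surjective_endomorphism _ (q.symm.surjective.comp hsurj)
  exact (q.symm.toEquiv.comp_bijective Φ).1 this

/-- Stalk bases over a point give triviality there. -/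
theorem triv_of_bijective_germ (hM : FlatMod.IsFinLocFreeOfRank r M) [IsProper p] {D : T.Opens}
    (e : Fin r → Γ(M, p ⁻¹ᵁ D)) {y : T} (hyD : y ∈ D)
    (key : ∀ (x : X) (hx : p x = y), Function.Bijective (Fintype.linearCombination (X.presheaf.stalk x)
      fun i => (M.presheaf.germ (p ⁻¹ᵁ D) x (show p x ∈ D by rw [hx]; exact hyD) (e i) : M.presheaf.stalk x))) :
    Triv p M r y := by
  -- spread out and use properness
  choose Dx hle hxD hBas using fun (x : {x : X // p x = y}) =>
    DetDeg13.exists_isBas_open hM e (show x.1 ∈ p ⁻¹ᵁ D from show p x.1 ∈ D by rw [x.2]; exact hyD) (key x.1 x.2)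
  let G : X.Opens := ⨆ x, Dx x
  have hclosed : IsClosed (p '' (G : Set X)ᶜ) := p.isClosedMap _ G.2.isClosed_compl
  let D' : T.Opens := ⟨(D : Set T) \ p '' (G : Set X)ᶜ, D.2.sdiff hclosed⟩
  have hD' : D' ≤ D := Set.sdiff_subset
  refine ⟨D', fun i => mres M (p.preimage_mono hD') (e i), ⟨hyD, ?_⟩, isBas_of_stalk fun x hx => ?_⟩
  · rintro ⟨x, hxG, hx⟩
    exact hxG (Opens.mem_iSup.2 ⟨⟨x, hx⟩, hxD ⟨x, hx⟩⟩)
  · have hxG : x ∈ G := by
      by_contra hn
      exact hx.2 ⟨x, hn, rfl⟩
    obtain ⟨y, hy⟩ := Opens.mem_iSup.1 hxG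
    have := (hBas y).stalk hy
    simp only [germ_mres] at this ⊢
    exact this

/-- Triviality descends to the image, once the direct image commutes with base change. -/
theorem triv_of_triv_pullback (hM : FlatMod.IsFinLocFreeOfRank r M) [IsProper p] (hgood : Good p M r)
    (hsq : IsPullback g' p' p g) {t : T'}
    (h : Triv p' ((Scheme.Modules.pullback g').obj M) r t) : Triv p M r (g t) := by
  obtain ⟨D, e, hyD, he⟩ := exists_isBas_nhd hgood.1 (g t)
  exact triv_of_bijective_germ hM e hyD fun x hx => bijective_germ hM hgood hsq h he hyD x hx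

/-- Triviality with fixed rank is an open condition. -/
theorem isOpen_setOf_triv : IsOpen {t : T | Triv p M r t} := by
  refine isOpen_iff_forall_mem_open.2 fun t ⟨D, b, ht, hb⟩ => ?_
  exact ⟨D, fun t' ht' => ⟨D, b, ht', hb⟩, D.2, ht⟩

end Groth.Agent.RankLoc10
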