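import Groth.Agent.Lib.CBC10.Bc0
import Groth.Agent.Lib.CBC10.Rows0
import Groth.Agent.Lib.CBC10.FieldBC
import Groth.Agent.Lib.RankStratum13.Basic

/-!
# Direct images that are locally free of a given rank, universally

`f_* F` is finite locally free of rank `r` and commutes with every base change exactly when the cokernels in degree
`-1` of computing complexes are flat and the fibres have `h⁰ = r`.
-/

set_option autoImplicit false
set_option linter.style.haveILetI false
set_option backward.isDefEq.respectTransparency false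
set_option backward.isDefEq.respectTransparency.types false

universe u
open CategoryTheory CategoryTheory.Limits AlgebraicGeometry TopologicalSpace
open scoped TensorProduct

noncomputable section

namespace Groth.Agent.RankLoc10

open Groth.Agent.CBC10

variable {X S : Scheme.{u}} (f : X ⟶ S) (F : X.Modules)

/-- Formation of `f_* F` commutes with every base change. -/
def UnivBC0 : Prop :=
  ∀ ⦃X' S' : Scheme.{u}⦄ (g' : X' ⟶ X) (f' : X' ⟶ S') (g : S' ⟶ S) (h : IsPullback g' f' f g),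
    IsIso (CohBC.bc0 f g f' g' h.w F)

/-- `f_* F` is locally free of rank `r`, universally. -/
def Good (r : ℕ) : Prop :=
  FlatMod.IsFinLocFreeOfRank r ((Scheme.Modules.pushforward f).obj F) ∧ UnivBC0 f F

variable {f F} [IsProper f]

theorem flatCok_of_univ [Coh.IsQCoh F] (h : UnivBC0 f F) {V : S.Opens} (M : Model f F V) : M.FlatCok (-1) := by
  haveI := fp_cok M.P (-1)
  haveI : Module.Projective Γ(S, V) (FlatCxLib.Cok M.P (-1)) := by
    refine Module.freeLocus_eq_univ_iff.1 (Set.eq_univ_of_forall fun x => ?_)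
    have hxV : M.isAffine.fromSpec x ∈ V := by
      rw [← SetLike.mem_coe, ← M.isAffine.range_fromSpec]; exact ⟨x, rfl⟩
    haveI := h _ _ _ (IsPullback.of_hasPullback f (S.fromSpecResidueField (M.isAffine.fromSpec x)))
    obtain ⟨hs, hfree⟩ := (M.epi_fibre0_iff hxV).1
      (inferInstanceAs (Epi (CohBC.bc0 f (S.fromSpecResidueField (M.isAffine.fromSpec x))
        (pullback.snd _ _) (pullback.fst _ _) pullback.condition F)))
    convert hfree using 1
    exact M.isAffine.fromSpec.isOpenEmbedding.injective (M.isAffine.fromSpec_primeIdealOf ⟨_, hs⟩).symm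
  exact Module.Flat.of_projective

/-- The rank of a free direct image is the fibre rank. -/
theorem fiberRank_eq_of_free [Coh.IsQCoh F] {V : S.Opens} (M : Model f F V) (hM : M.FlatCok (-1)) {s : S}
    (hs : s ∈ V) {U : S.Opens} (hsU : s ∈ U) {n : ℕ}
    (e : ((Scheme.Modules.pushforward f).obj F).restrict U.ι ≅ FlatMod.freeMod (↑U) n) :
    CohIII.fiberRank f F 0 s = n := by
  obtain ⟨W, hW, hsW, hle⟩ := Opens.isBasis_iff_nbhd.1 S.isBasis_affineOpens (show s ∈ V ⊓ U from ⟨hs, hsU⟩)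
  have hW' : IsAffineOpen (W : S.Opens) := hW
  let M' := M.restrict inferInstance hW' (hle.trans inf_le_left)
  have hM' : M'.FlatCok (-1) := by
    letI := (S.presheaf.map (homOfLE (hle.trans inf_le_left)).op).hom.toAlgebra
    exact FlatCxLib.flat_cok_baseChange _ M.P _ hM
  obtain ⟨Ψ₀, -⟩ := exists_bc0Model (IsPullback.of_horiz_isIso ⟨by simp⟩ : IsPullback (𝟙 X) f f (𝟙 S)) F hW' hW'
    le_rfl M'.computes
  obtain ⟨b⟩ := RankStratum13.exists_basis_of_freeMod (M1.isQCoh_push f inferInstance) e hW'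
    (hle.trans inf_le_right)
  let b' := ((b.map Ψ₀.symm).reindex Equiv.ulift)
  let x := hW'.primeIdealOf ⟨s, hsW⟩
  haveI : Nontrivial Γ(S, W) := x.nontrivial
  haveI : ∀ i, Module.Flat Γ(S, W) (M'.P.X i) := fun i => Module.Flat.of_projective
  have hr : CohIII.fiberRank f F 0 s = CohIII.dRank M'.P (-((0 : ℕ) : ℤ)) x :=
    M'.fiberRank_eq inferInstance 0 ⟨s, hsW⟩
  rw [hr, FlatCxLib.dRank_eq_finrank M'.P _ ((FlatCxLib.preservesEpi_iff M'.P (q := -1) (by omega)).2 hM') x]
  exact (Module.finrank_eq_card_basis (b'.baseChange x.asIdeal.ResidueField)).trans (Fintype.card_fin n)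

/-- The criterion. -/
theorem good_iff [LocallyOfFinitePresentation f] [Coh.IsQCoh F] (r : ℕ) {ι : Type*} {V : ι → S.Opens}
    (hV : ∀ s, ∃ i, s ∈ V i) (M : ∀ i, Model f F (V i)) :
    Good f F r ↔ (∀ i, (M i).FlatCok (-1)) ∧ ∀ s, CohIII.fiberRank f F 0 s = r := by
  constructor
  · rintro ⟨hfree, hu⟩
    refine ⟨fun i => flatCok_of_univ hu (M i), fun s => ?_⟩
    obtain ⟨i, hi⟩ := hV s
    obtain ⟨U, hsU, ⟨e⟩⟩ := hfree s
    exact fiberRank_eq_of_free (M i) (flatCok_of_univ hu (M i)) hi hsU e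
  · rintro ⟨hc, hr⟩
    refine ⟨fun s => ?_, fun X' S' g' f' g h => isIso_bc0 h F fun z => ?_⟩
    · obtain ⟨U, n, hsU, ⟨e⟩⟩ := isFinLocFree_push (f := f) (F := F)
        (fun s => (hV s).elim fun i hi => ⟨V i, M i, hi, hc i⟩) s
      obtain ⟨i, hi⟩ := hV s
      obtain rfl : n = r := (fiberRank_eq_of_free (M i) (hc i) hi hsU e).symm.trans (hr s)
      exact ⟨U, hsU, ⟨e⟩⟩
    · exact (hV (g z)).elim fun i hi => ⟨V i, M i, hi, hc i⟩

variable {X' S' : Scheme.{u}} {g : S' ⟶ S} {f' : X' ⟶ S'} {g' : X' ⟶ X}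

/-- Base change of a model. -/
theorem exists_model_baseChange [hF : Coh.IsQCoh F] (h : IsPullback g' f' f g) {V : S.Opens} (M : Model f F V)
    {W : S'.Opens} (hW : IsAffineOpen W) (eW : W ≤ g ⁻¹ᵁ V) :
    letI := (g.appLE V W eW).hom.toAlgebra
    ∃ M' : Model f' ((Scheme.Modules.pullback g').obj F) W,
      M'.P = CohIII.bcCx (algebraMap Γ(S, V) Γ(S', W)) M.P := by
  letI := (g.appLE V W eW).hom.toAlgebra
  letI := overU f M.isAffine
  letI := overU f' hW
  let X₁ : Scheme.{u} := (f ⁻¹ᵁ V : X.Opens)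
  haveI : IsSeparated (X₁ ↘ Spec (CommRingCat.of Γ(S, V))) :=
    inferInstanceAs (IsSeparated (f ∣_ V ≫ M.isAffine.isoSpec.hom))
  haveI : QuasiCompact (X₁ ↘ Spec (CommRingCat.of Γ(S, V))) :=
    inferInstanceAs (QuasiCompact (f ∣_ V ≫ M.isAffine.isoSpec.hom))
  haveI : CompactSpace X₁ := QuasiCompact.compactSpace_of_compactSpace (X₁ ↘ Spec (CommRingCat.of Γ(S, V)))
  haveI : X₁.IsSeparated := ⟨by
    rw [← terminal.comp_from (X₁ ↘ Spec (CommRingCat.of Γ(S, V)))]
    infer_instance⟩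
  have eU : f' ⁻¹ᵁ W ≤ g' ⁻¹ᵁ (f ⁻¹ᵁ V) := le_preimage_of_le (w := h.w) eW
  have H := isPullback_affine h M.isAffine hW eW eU
  refine ⟨{
    isAffine := hW
    P := CohIII.bcCx (algebraMap Γ(S, V) Γ(S', W)) M.P
    finite := fun i => finite_bcCx M.P Γ(S', W) i
    projective := fun i => projective_bcCx M.P Γ(S', W) i
    bounded := M.bounded.imp fun i₀ hb i hi => FlatCxLib.isZero_bc M.P (hb i hi)
    pos := fun i hi N => ?_
    computes := Computes.baseChange M.computes (M1.isQCoh_restrict hF _) H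
      (CohPull.pullOnIso g' (f ⁻¹ᵁ V) (f' ⁻¹ᵁ W) eU F) }, rfl⟩
  letI : Module Γ(S, V) N := Module.compHom N (algebraMap Γ(S, V) Γ(S', W))
  haveI : IsScalarTower Γ(S, V) Γ(S', W) N := IsScalarTower.of_algebraMap_smul fun _ _ => rfl
  haveI := M.pos i hi (ModuleCat.of Γ(S, V) N)
  exact ((BCData.self M.P).tEquivD N (sub_add_cancel i 1)).symm.toEquiv.subsingleton

/-- The fibre rank is invariant under base change. -/
theorem fiberRank_eq [IsProper f'] [hF : Coh.IsQCoh F] (h : IsPullback g' f' f g) {V : S.Opens} (M : Model f F V)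
    {W : S'.Opens} (hW : IsAffineOpen W) (eW : W ≤ g ⁻¹ᵁ V) {t : S'} (ht : t ∈ W) :
    CohIII.fiberRank f' ((Scheme.Modules.pullback g').obj F) 0 t = CohIII.fiberRank f F 0 (g t) := by
  letI := (g.appLE V W eW).hom.toAlgebra
  obtain ⟨M', hM'⟩ := exists_model_baseChange h M hW eW
  haveI : ∀ i, Module.Flat Γ(S, V) (M.P.X i) := fun i => Module.Flat.of_projective
  refine (M'.fiberRank_eq (M1.isQCoh_pullback g' hF) 0 ⟨t, ht⟩).trans ?_
  rw [hM', FlatCxLib.dRank_bcCx]
  refine Eq.trans ?_ (M.fiberRank_eq hF 0 ⟨g t, eW ht⟩).symm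
  exact congrArg (CohIII.dRank M.P _) (IsAffineOpen.comap_primeIdealOf_appLE V M.isAffine W hW eW ht)

end Groth.Agent.RankLoc10
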