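import Groth.Agent.Lib.RankLoc10.Qc
import Groth.Agent.Lib.DPerf.RelAmp
import Groth.Agent.Lib.SchBasic.Basic
import Groth.Agent.Lib.KFlat.LpullPC

/-!
# The locus where a locally free module descends to the base
-/

set_option autoImplicit false
set_option linter.style.haveILetI false
set_option backward.isDefEq.respectTransparency false
set_option backward.isDefEq.respectTransparency.types false

universe u
open CategoryTheory CategoryTheory.Limits AlgebraicGeometry TopologicalSpace Opposite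

noncomputable section

namespace Groth.Agent.RankLoc10

variable {X S : Scheme.{u}}

/-- `O = f_* O` after every base change. -/
def UnivAppIso (f : X ⟶ S) : Prop :=
  ∀ ⦃X' T : Scheme.{u}⦄ (g' : X' ⟶ X) (f' : X' ⟶ T) (u : T ⟶ S), IsPullback g' f' f u → AppIso f'

theorem univAppIso_of_pullback {f : X ⟶ S}
    (h : ∀ (T : Scheme.{u}) (g : T ⟶ S) (U : T.Opens), IsIso ((pullback.snd f g).app U)) : UnivAppIso f := by
  intro X' T g' f' u hsq U
  haveI := h T u U
  haveI : IsIso (f'.app U) := by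
    rw [← hsq.isoPullback_hom_snd, Scheme.Hom.comp_app]
    infer_instance
  exact ConcreteCategory.bijective_of_isIso (f'.app U)

/-- A square over a base change of a square. -/
theorem UnivAppIso.baseChange {f : X ⟶ S} (hO : UnivAppIso f) {X₁ T₁ : Scheme.{u}} {g₁ : X₁ ⟶ X} {f₁ : X₁ ⟶ T₁}
    {u₁ : T₁ ⟶ S} (h₁ : IsPullback g₁ f₁ f u₁) : UnivAppIso f₁ :=
  fun _ _ g' f' u h => hO (g' ≫ g₁) f' (u ≫ u₁) (h.paste_horiz h₁)

theorem surjective_of_univAppIso {f : X ⟶ S} (hO : UnivAppIso f) (s : S) : ∃ x : X, f x = s := by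
  by_contra hn
  simp only [not_exists] at hn
  have hsq := IsPullback.of_hasPullback f (S.fromSpecResidueField s)
  haveI : IsEmpty ↑(pullback f (S.fromSpecResidueField s)) := Scheme.isEmpty_pullback_iff.2 (by
    rw [Set.disjoint_left]
    rintro _ ⟨x, rfl⟩ ⟨z, hz⟩
    exact hn x (hz.symm.trans (S.fromSpecResidueField_apply s z)))
  have hb := hO _ _ _ hsq ⊤
  haveI : Nontrivial Γ(Spec (S.residueField s), ⊤) :=
    (Scheme.ΓSpecIso (S.residueField s)).commRingCatIsoToRingEquiv.toEquiv.nontrivial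
  obtain ⟨a, b, hab⟩ := exists_pair_ne Γ(Spec (S.residueField s), ⊤)
  haveI : Subsingleton Γ(pullback f (S.fromSpecResidueField s), (pullback.snd f (S.fromSpecResidueField s)) ⁻¹ᵁ ⊤) :=
    inferInstanceAs (Subsingleton Γ(pullback f (S.fromSpecResidueField s), ⊤))
  exact hab (hb.1 (Subsingleton.elim _ _))

variable (f : X ⟶ S) (E : X.Modules)

/-- Trivial locally on the base after base change along `u`. -/
def DescCond {T : Scheme.{u}} (u : T ⟶ S) : Prop :=
  ∀ t : T, ∃ n, Triv (pullback.snd f u) ((Scheme.Modules.pullback (pullback.fst f u)).obj E) n t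

variable {f E}

theorem trivE_pull {X' T X'' T'' : Scheme.{u}} {g' : X' ⟶ X} {f' : X' ⟶ T} {g'' : X'' ⟶ X} {f'' : X'' ⟶ T''}
    {a : X'' ⟶ X'} {h : T'' ⟶ T} (w : a ≫ f' = f'' ≫ h) (e : a ≫ g' = g'') {n : ℕ} {t : T''}
    (ht : Triv f' ((Scheme.Modules.pullback g').obj E) n (h t)) :
    Triv f'' ((Scheme.Modules.pullback g'').obj E) n t :=
  (ht.pull w).map_iso ((Scheme.Modules.pullbackComp a g').app E ≪≫ (Scheme.Modules.pullbackCongr e).app E)

theorem descCond_iff {T : Scheme.{u}} {u : T ⟶ S} {X' : Scheme.{u}} {g' : X' ⟶ X} {f' : X' ⟶ T}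
    (hsq : IsPullback g' f' f u) :
    DescCond f E u ↔ ∀ t, ∃ n, Triv f' ((Scheme.Modules.pullback g').obj E) n t := by
  constructor
  · intro h t
    obtain ⟨n, hn⟩ := h t
    exact ⟨n, trivE_pull (a := hsq.isoPullback.hom) (h := 𝟙 T) (by simp) (by simp) hn⟩
  · intro h t
    obtain ⟨n, hn⟩ := h t
    exact ⟨n, trivE_pull (a := hsq.isoPullback.inv) (h := 𝟙 T) (by simp) (by simp) hn⟩

theorem descCond_comp {T T' : Scheme.{u}} (a : T' ⟶ T) (u : T ⟶ S) (h : DescCond f E u) :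
    DescCond f E (a ≫ u) := fun t => by
  obtain ⟨n, hn⟩ := h (a t)
  exact ⟨n, trivE_pull (a := pullback.lift (pullback.fst f (a ≫ u)) (pullback.snd f (a ≫ u) ≫ a)
    (by rw [pullback.condition, Category.assoc])) (h := a) (by simp) (by simp) hn⟩

theorem triv_image {T T' : Scheme.{u}} (a : T' ⟶ T) [IsOpenImmersion a] (u : T ⟶ S) {n : ℕ} {y : T'}
    (h : Triv (pullback.snd f (a ≫ u)) ((Scheme.Modules.pullback (pullback.fst f (a ≫ u))).obj E) n y) :
    Triv (pullback.snd f u) ((Scheme.Modules.pullback (pullback.fst f u)).obj E) n (a y) := by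
  let a' := pullback.fst (pullback.snd f u) a
  let p' := pullback.snd (pullback.snd f u) a
  have h' : Triv p' (((Scheme.Modules.pullback (pullback.fst f u)).obj E).restrict a') n y := by
    refine Triv.map_iso ?_ (((Scheme.Modules.pullbackComp a' (pullback.fst f u)).app E).symm ≪≫
      ((Scheme.Modules.restrictFunctorIsoPullback a').app _).symm)
    exact trivE_pull (a := pullback.lift (a' ≫ pullback.fst f u) p'
      (by rw [Category.assoc, pullback.condition, ← Category.assoc, pullback.condition, Category.assoc]))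
      (h := 𝟙 T') (by simp [p']) (by simp) h
  obtain ⟨D, b, hyD, hb⟩ := h'
  have heq : a' ''ᵁ (p' ⁻¹ᵁ D) = (pullback.snd f u) ⁻¹ᵁ (a ''ᵁ D) := by
    ext x
    constructor
    · rintro ⟨z, hz, rfl⟩
      refine ⟨p' z, hz, ?_⟩
      exact congr(($(pullback.condition (f := pullback.snd f u) (g := a))).base z).symm
    · rintro ⟨d, hd, hdx⟩
      obtain ⟨z, hz1, hz2⟩ := Scheme.Pullback.exists_preimage_pullback x d hdx.symm
      exact ⟨z, show p' z ∈ D from hz2 ▸ hd, hz1⟩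
  exact ⟨a ''ᵁ D, _, ⟨y, hyD, rfl⟩, (P1Split.isBas_of_restrict a' _ hb).mres heq.ge⟩

variable (f E) in
/-- Where all fibres have rank `r`. -/
def rankLocus [IsProper f] (hE : FlatMod.IsFinLocFree E) (r : ℕ) : S.Opens :=
  ⟨(f '' {x | rk E x ≠ r})ᶜ,
    (f.isClosedMap _ ((isLocallyConstant_rk hE).isClopen_fiber r).isOpen.isClosed_compl).isOpen_compl⟩

section Main

variable [IsProper f] [LocallyOfFinitePresentation f] [Flat f] (hE : FlatMod.IsFinLocFree E) (hO : UnivAppIso f)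

theorem mem_rankLocus {r : ℕ} {s : S} : s ∈ rankLocus f E hE r ↔ ∀ x, f x = s → rk E x = r := by
  constructor
  · intro h x hx
    by_contra hn
    exact h ⟨x, hn, hx⟩
  · rintro h ⟨x, hn, hx⟩
    exact hn (h x hx)

include hE hO in
theorem exists_chart (r : ℕ) :
    ∃ (U : Scheme.{u}) (ι : U ⟶ S), IsImmersion ι ∧ LocallyOfFinitePresentation ι ∧ QuasiCompact ι ∧
      ∀ (T : Scheme.{u}) (u : T ⟶ S),
        (∃ z : T ⟶ U, z ≫ ι = u) ↔ DescCond f E u ∧ ∀ t, u t ∈ rankLocus f E hE r := by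
  haveI : Coh.IsQCoh E := M1.isFP_isQCoh (M1.isFP_of_isFinLocFree hE)
  obtain ⟨Z₀, i, hi, hifp, hiqc, hu, -⟩ := exists_immersion_univ (f := f) (F := E)
    (M1.isFP_of_isFinLocFree hE) (DPerf.isFlatOver_of_isFlat f (KFlat.Sch.isFlat_of_isFinLocFree hE)) r
  let W : Z₀.Opens := i ⁻¹ᵁ rankLocus f E hE r
  let ιY : W.toScheme ⟶ S := W.ι ≫ i
  let pY := pullback.snd f ιY
  let MY := (Scheme.Modules.pullback (pullback.fst f ιY)).obj E
  have hY := IsPullback.of_hasPullback f ιY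
  have hMY : FlatMod.IsFinLocFreeOfRank r MY := by
    refine isFinLocFreeOfRank_of_rk (M2.isFinLocFree_pullback _ hE) fun x => ?_
    rw [rk_pullback hE]
    refine (mem_rankLocus (f := f) hE).1 ?_ _ rfl
    rw [← Scheme.Hom.comp_apply, pullback.condition, Scheme.Hom.comp_apply]
    exact (pY x).2
  have hgood : Good pY MY r := (hu _ ιY _ _ _ hY).1 ⟨W.ι, rfl⟩
  let U : W.toScheme.Opens := ⟨{y | Triv pY MY r y}, isOpen_setOf_triv⟩
  haveI : QuasiCompact (rankLocus f E hE r).ι := quasiCompact_opens_ι _ fun s => by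
    refine ⟨⊤, trivial, fun V hV _ => ?_⟩
    have hG : IsClopen {x : X | rk E x = r} := (isLocallyConstant_rk hE).isClopen_fiber r
    have : ((V : Set S) ∩ rankLocus f E hE r) = (V : Set S) \ f '' {x : X | rk E x = r}ᶜ := rfl
    rw [this]
    refine isCompact_sdiff_image f hV hG.isOpen ?_
    haveI : IsAffine V.toScheme := hV
    haveI : CompactSpace (f ⁻¹ᵁ V).toScheme := QuasiCompact.compactSpace_of_compactSpace (f ∣_ V)
    exact (isCompact_iff_compactSpace.mpr (inferInstanceAs (CompactSpace (f ⁻¹ᵁ V).toScheme))).inter_left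
      hG.isClosed
  haveI : QuasiCompact W.ι := MorphismProperty.of_isPullback
    (isPullback_morphismRestrict i (rankLocus f E hE r)) inferInstance
  haveI : QuasiCompact U.ι := quasiCompact_triv hMY hgood
  refine ⟨U, U.ι ≫ ιY, inferInstance, inferInstance, inferInstance, fun T u => ?_⟩
  constructor
  · rintro ⟨z, rfl⟩
    refine ⟨descCond_comp z _ fun y => ⟨r, ?_⟩, fun t => ?_⟩
    · exact trivE_pull (a := pullback.lift (pullback.fst f (U.ι ≫ ιY)) (pullback.snd f (U.ι ≫ ιY) ≫ U.ι)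
        (by rw [pullback.condition, Category.assoc])) (h := U.ι) (by simp [pY]) (by simp) y.2
    · exact (z t).1.2
  · rintro ⟨hd, hr⟩
    have hX := IsPullback.of_hasPullback f u
    let M := (Scheme.Modules.pullback (pullback.fst f u)).obj E
    have hT : ∀ t, Triv (pullback.snd f u) M r t := fun t => by
      obtain ⟨n, hn⟩ := hd t
      obtain ⟨x, hx⟩ := surjective_of_univAppIso (hO.baseChange hX) t
      have hx' := (mem_rankLocus hE).1 (hr t) (pullback.fst f u x) (by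
        rw [← Scheme.Hom.comp_apply, pullback.condition, Scheme.Hom.comp_apply, hx])
      rw [← rk_pullback hE, hn.rk hx] at hx'
      exact hx' ▸ hn
    have hp : AppIso (pullback.snd f u) := hO _ _ _ hX
    obtain ⟨z₀, hz₀⟩ := (hu T u _ _ _ hX).2 (good_of_triv hp (hO.baseChange hX) hT)
    have hrW : Set.range z₀ ⊆ Set.range W.ι := by
      rw [Scheme.Opens.range_ι]
      rintro _ ⟨t, rfl⟩
      show i (z₀ t) ∈ rankLocus f E hE r
      rw [← Scheme.Hom.comp_apply, hz₀]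
      exact hr t
    let y := IsOpenImmersion.lift W.ι z₀ hrW
    have hy : y ≫ ιY = u := by rw [IsOpenImmersion.lift_fac_assoc, hz₀]
    let g₂ : pullback f u ⟶ pullback f ιY := pullback.lift (pullback.fst f u) (pullback.snd f u ≫ y)
      (by rw [pullback.condition, Category.assoc, hy])
    have hsq : IsPullback g₂ (pullback.snd f u) pY y := IsPullback.of_right
      (by simpa [g₂, hy] using hX) (by simp [g₂, pY]) hY
    have hrU : Set.range y ⊆ Set.range U.ι := by
      rw [Scheme.Opens.range_ι]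
      rintro _ ⟨t, rfl⟩
      exact triv_of_triv_pullback hMY hgood hsq ((hT t).map_iso
        ((Scheme.Modules.pullbackCongr (show g₂ ≫ pullback.fst f ιY = pullback.fst f u by simp [g₂])).app E).symm
          |>.map_iso ((Scheme.Modules.pullbackComp g₂ (pullback.fst f ιY)).app E).symm)
    exact ⟨IsOpenImmersion.lift U.ι y hrU, by rw [IsOpenImmersion.lift_fac_assoc, hy]⟩

include hE hO in
/-- The descent locus. -/
theorem exists_desc_immersion :
    ∃ (Z : Scheme.{u}) (ι : Z ⟶ S), IsImmersion ι ∧ LocallyOfFinitePresentation ι ∧ QuasiCompact ι ∧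
      ∀ (T : Scheme.{u}) (u : T ⟶ S), (∃ z : T ⟶ Z, z ≫ ι = u) ↔
        ∃ N : T.Modules, FlatMod.IsFinLocFree N ∧ Nonempty ((Scheme.Modules.pullback (pullback.snd f u)).obj N ≅
          (Scheme.Modules.pullback (pullback.fst f u)).obj E) := by
  have hdesc : ∀ {T : Scheme.{u}} (u : T ⟶ S), DescCond f E u ↔ ∃ N : T.Modules, FlatMod.IsFinLocFree N ∧
      Nonempty ((Scheme.Modules.pullback (pullback.snd f u)).obj N ≅
        (Scheme.Modules.pullback (pullback.fst f u)).obj E) := fun u =>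
    ⟨fun h => exists_iso_of_triv (hO _ _ _ (IsPullback.of_hasPullback f u)) h,
      fun ⟨N, hN, ⟨e⟩⟩ t => exists_triv_of_iso hN e t⟩
  choose Uk ιk himm hfpk hqck hUk using fun r : ULift.{u} ℕ => exists_chart hE hO r.down
  let Φ : (Over S)ᵒᵖ ⥤ Type u :=
    { obj := fun T => ULift.{u} (PLift (DescCond f E T.unop.hom))
      map := fun {T T'} g => TypeCat.ofHom fun h => ⟨⟨by
        rw [← Over.w g.unop]
        exact descCond_comp _ _ h.down.down⟩⟩ }
  let C : ULift.{u} ℕ → OverRep16.Chart Φ := fun r =>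
    { U := Over.mk (ιk r)
      Z := ⟨⟨((hUk r _ (ιk r)).1 ⟨𝟙 _, Category.id_comp _⟩).1⟩⟩
      eq_of_map_eq := fun {T} a b _ => by
        haveI := himm r
        exact Over.OverMorphism.ext ((cancel_mono (ιk r)).1 ((Over.w a).trans (Over.w b).symm))
      exists_locus := fun T Z' => ⟨T.hom ⁻¹ᵁ rankLocus f E hE r.down, fun {T'} g => ⟨fun hg => by
        obtain ⟨z, hz⟩ := (hUk r T'.left T'.hom).2 ⟨by rw [← Over.w g]; exact descCond_comp _ _ Z'.down.down,
          fun y => by rw [← Over.w g]; exact hg y⟩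
        exact ⟨Over.homMk z hz, rfl⟩,
        fun ⟨a, _⟩ y => by
          show T.hom (g.left y) ∈ rankLocus f E hE r.down
          rw [← Scheme.Hom.comp_apply, Over.w g, ← Over.w a]
          exact ((hUk r _ (ιk r)).1 ⟨𝟙 _, Category.id_comp _⟩).2 (a.left y)⟩⟩ }
  have hsheaf : OverRep16.IsZarSheaf Φ := fun T 𝒰 x _ =>
    ⟨⟨⟨fun t => by
      obtain ⟨y, hy⟩ := 𝒰.covers t
      obtain ⟨n, hn⟩ := (x _).down.down y
      exact ⟨n, hy ▸ triv_image (𝒰.f (𝒰.idx t)) T.hom hn⟩⟩⟩, fun _ => rfl, fun _ _ => rfl⟩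
  obtain ⟨Z, ⟨R⟩⟩ := OverRep16.representable_of_charts hsheaf C fun T Z' t => by
    obtain ⟨n, hn⟩ := Z'.down.down t
    have hmem : T.hom t ∈ rankLocus f E hE n := (mem_rankLocus hE).2 fun x hx => by
      obtain ⟨x', hx1, hx2⟩ := Scheme.Pullback.exists_preimage_pullback x t hx
      rw [← hx1, ← rk_pullback hE]
      exact hn.rk hx2
    let O := T.hom ⁻¹ᵁ rankLocus f E hE n
    obtain ⟨z, hz⟩ := (hUk ⟨n⟩ O (O.ι ≫ T.hom)).2 ⟨descCond_comp _ _ Z'.down.down, fun y => y.2⟩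
    exact ⟨⟨n⟩, O, hmem, Over.homMk z hz, rfl⟩
  have hZ : ∀ {T : Scheme.{u}} (u : T ⟶ S), (∃ z : T ⟶ Z.left, z ≫ Z.hom = u) ↔ DescCond f E u := by
    intro T u
    constructor
    · rintro ⟨z, rfl⟩
      exact (R.homEquiv (Over.homMk z rfl : Over.mk (z ≫ Z.hom) ⟶ Z)).down.down
    · intro hu
      exact ⟨_, Over.w (R.homEquiv.symm ⟨⟨hu⟩⟩ : Over.mk u ⟶ Z)⟩
  haveI : Mono Z.hom := ⟨fun {T} a b hab => by
    have : (Over.homMk a rfl : Over.mk (a ≫ Z.hom) ⟶ Z) = Over.homMk b hab.symm :=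
      R.homEquiv.injective (Subsingleton.elim (α := ULift.{u} (PLift (DescCond f E (a ≫ Z.hom)))) _ _)
    exact congrArg CommaMorphism.left this⟩
  let O : S.Opens := ⨆ r : ULift.{u} ℕ, rankLocus f E hE r.down
  have hrange : Set.range Z.hom ⊆ Set.range O.ι := by
    rw [Scheme.Opens.range_ι]
    rintro _ ⟨z, rfl⟩
    obtain ⟨n, hn⟩ := (hZ Z.hom).1 ⟨𝟙 _, Category.id_comp _⟩ z
    refine Opens.mem_iSup.2 ⟨⟨n⟩, (mem_rankLocus hE).2 fun x hx => ?_⟩
    obtain ⟨x', hx1, hx2⟩ := Scheme.Pullback.exists_preimage_pullback x z hx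
    rw [← hx1, ← rk_pullback hE]
    exact hn.rk hx2
  let l := IsOpenImmersion.lift O.ι Z.hom hrange
  have hl : l ≫ O.ι = Z.hom := IsOpenImmersion.lift_fac _ _ _
  let V : ULift.{u} ℕ → O.toScheme.Opens := fun r => O.ι ⁻¹ᵁ rankLocus f E hE r.down
  have hloc : ∀ r, ∃ e : (l ⁻¹ᵁ V r).toScheme ≅ Uk r, e.hom ≫ ιk r = (l ∣_ V r) ≫ (V r).ι ≫ O.ι := fun r => by
    haveI := himm r
    have hP : (l ∣_ V r) ≫ (V r).ι ≫ O.ι = (l ⁻¹ᵁ V r).ι ≫ Z.hom := by
      rw [morphismRestrict_ι_assoc, hl]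
    rw [hP]
    obtain ⟨a, ha⟩ := (hUk r _ ((l ⁻¹ᵁ V r).ι ≫ Z.hom)).2 ⟨(hZ _).1 ⟨_, rfl⟩, fun y => by
      rw [Scheme.Hom.comp_apply, ← hl, Scheme.Hom.comp_apply]
      exact y.2⟩
    obtain ⟨b, hb⟩ := (hZ (ιk r)).2 ((hUk r _ (ιk r)).1 ⟨𝟙 _, Category.id_comp _⟩).1
    have hr' : Set.range b ⊆ Set.range (l ⁻¹ᵁ V r).ι := by
      rw [Scheme.Opens.range_ι]
      rintro _ ⟨y, rfl⟩
      show O.ι (l (b y)) ∈ rankLocus f E hE r.down
      rw [← Scheme.Hom.comp_apply, hl, ← Scheme.Hom.comp_apply, hb]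
      exact ((hUk r _ (ιk r)).1 ⟨𝟙 _, Category.id_comp _⟩).2 y
    let b' := IsOpenImmersion.lift _ b hr'
    have hb' : b' ≫ (l ⁻¹ᵁ V r).ι ≫ Z.hom = ιk r := by rw [IsOpenImmersion.lift_fac_assoc, hb]
    exact ⟨⟨a, b', by rw [← cancel_mono ((l ⁻¹ᵁ V r).ι ≫ Z.hom), Category.assoc, hb', ha, Category.id_comp],
      by rw [← cancel_mono (ιk r), Category.assoc, ha, hb', Category.id_comp]⟩, ha⟩
  have hsup : iSup V = ⊤ := top_le_iff.1 fun y _ => by
    obtain ⟨r, hr⟩ := Opens.mem_iSup.1 y.2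
    exact Opens.mem_iSup.2 ⟨r, hr⟩
  have h1 : IsImmersion l := IsZariskiLocalAtTarget.of_iSup_eq_top V hsup fun r => by
    obtain ⟨e, he⟩ := hloc r
    haveI := himm r
    haveI : IsImmersion ((l ∣_ V r) ≫ (V r).ι ≫ O.ι) := by rw [← he]; infer_instance
    exact IsImmersion.of_comp (l ∣_ V r) ((V r).ι ≫ O.ι)
  have h2 : LocallyOfFinitePresentation l := IsZariskiLocalAtTarget.of_iSup_eq_top V hsup fun r => by
    obtain ⟨e, he⟩ := hloc r
    haveI := hfpk r
    haveI : LocallyOfFinitePresentation ((l ∣_ V r) ≫ (V r).ι ≫ O.ι) := by rw [← he]; infer_instance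
    exact SchBasic.locallyOfFinitePresentation_of_comp (l ∣_ V r) ((V r).ι ≫ O.ι)
  have h3 : QuasiCompact l := IsZariskiLocalAtTarget.of_iSup_eq_top V hsup fun r => by
    obtain ⟨e, he⟩ := hloc r
    haveI := hqck r
    haveI : QuasiCompact ((l ∣_ V r) ≫ (V r).ι ≫ O.ι) := by rw [← he]; infer_instance
    exact QuasiCompact.of_comp (l ∣_ V r) ((V r).ι ≫ O.ι)
  haveI : QuasiCompact O.ι := quasiCompact_opens_ι _ fun s => by
    refine ⟨⊤, trivial, fun W hW _ => ?_⟩
    haveI : IsAffine W.toScheme := hW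
    haveI : CompactSpace (f ⁻¹ᵁ W).toScheme := QuasiCompact.compactSpace_of_compactSpace (f ∣_ W)
    have hcpt : IsCompact (f ⁻¹' (W : Set S)) :=
      isCompact_iff_compactSpace.mpr (inferInstanceAs (CompactSpace (f ⁻¹ᵁ W).toScheme))
    obtain ⟨F, hF⟩ := hcpt.elim_finite_subcover (fun r : ℕ => {x : X | rk E x = r})
      (fun r => ((isLocallyConstant_rk hE).isClopen_fiber r).isOpen) fun x _ => Set.mem_iUnion.2 ⟨_, rfl⟩
    have heq : (W : Set S) ∩ O = ⋃ r ∈ F, (W : Set S) \ f '' {x : X | rk E x = r}ᶜ := by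
      ext y
      simp only [Set.mem_iUnion, Set.mem_inter_iff, exists_prop]
      constructor
      · rintro ⟨hyW, hyO⟩
        obtain ⟨r, hr⟩ := Opens.mem_iSup.1 hyO
        obtain ⟨x, hx⟩ := surjective_of_univAppIso hO y
        obtain ⟨n, hnF, hn⟩ := Set.mem_iUnion₂.1 (hF (show f x ∈ W from hx ▸ hyW))
        have : n = r.down := hn.symm.trans ((mem_rankLocus hE).1 hr x hx)
        exact ⟨n, hnF, hyW, this ▸ hr⟩
      · rintro ⟨r, -, hyW, hy⟩
        exact ⟨hyW, Opens.mem_iSup.2 ⟨⟨r⟩, hy⟩⟩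
    rw [heq]
    refine F.finite_toSet.isCompact_biUnion fun r _ => ?_
    have hG : IsClopen {x : X | rk E x = r} := (isLocallyConstant_rk hE).isClopen_fiber r
    exact isCompact_sdiff_image f hW hG.isOpen (hcpt.inter_left hG.isClosed)
  refine ⟨Z.left, Z.hom, ?_, ?_, ?_, fun T u => (hZ u).trans (hdesc u)⟩ <;> rw [← hl] <;> infer_instance

end Main

end Groth.Agent.RankLoc10
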