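import Groth.Agent.Lib.RankLoc10.Stratum
import Groth.Agent.Lib.OverRep16.Glue
import Groth.Agent.Lib.CBC10.GenRows

/-!
# The immersion through which `f_* F` becomes locally free of rank `r`, universally
-/

set_option autoImplicit false
set_option linter.style.haveILetI false
set_option backward.isDefEq.respectTransparency false
set_option backward.isDefEq.respectTransparency.types false

universe u
open CategoryTheory CategoryTheory.Limits AlgebraicGeometry TopologicalSpace Opposite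
open scoped TensorProduct

noncomputable section

namespace Groth.Agent.RankLoc10

open Groth.Agent.CBC10

variable {X S : Scheme.{u}} {f : X ⟶ S} {F : X.Modules}

/-- The base changed cokernel in degree `-1` is flat. -/
def FlatAt {V : S.Opens} (M : Model f F V) {T : Scheme.{u}} (u : T ⟶ S) (W : T.Opens) (eW : W ≤ u ⁻¹ᵁ V) : Prop :=
  letI := (u.appLE V W eW).hom.toAlgebra
  Module.Flat Γ(T, W) (Γ(T, W) ⊗[Γ(S, V)] FlatCxLib.Cok M.P (-1))

theorem flat_transfer {A B B' : Type u} [CommRing A] [CommRing B] [CommRing B'] (φ : A →+* B) (φ' : A →+* B')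
    (ψ : B →+* B') (h : ψ.comp φ = φ') (K : Type u) [AddCommGroup K] [Module A K]
    (hK : letI := φ.toAlgebra; Module.Flat B (B ⊗[A] K)) :
    letI := φ'.toAlgebra; Module.Flat B' (B' ⊗[A] K) := by
  letI := φ.toAlgebra
  letI := φ'.toAlgebra
  letI := ψ.toAlgebra
  haveI : IsScalarTower A B B' := IsScalarTower.of_algebraMap_eq fun a => (RingHom.congr_fun h a).symm
  haveI := hK
  exact Module.Flat.of_linearEquiv (TensorProduct.AlgebraTensorModule.cancelBaseChange A B B' B' K).symm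

theorem flatAt_comp {V : S.Opens} (M : Model f F V) {T T' : Scheme.{u}} (a : T' ⟶ T) (u : T ⟶ S) {W : T.Opens}
    (eW : W ≤ u ⁻¹ᵁ V) {W' : T'.Opens} (e : W' ≤ a ⁻¹ᵁ W) (eW' : W' ≤ (a ≫ u) ⁻¹ᵁ V) (h : FlatAt M u W eW) :
    FlatAt M (a ≫ u) W' eW' :=
  flat_transfer (u.appLE V W eW).hom ((a ≫ u).appLE V W' eW').hom (a.appLE W W' e).hom
    (by rw [← CommRingCat.hom_comp, Scheme.Hom.appLE_comp_appLE]) _ h

theorem flatAt_image {V : S.Opens} (M : Model f F V) {T T' : Scheme.{u}} (a : T' ⟶ T) [IsOpenImmersion a]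
    (u : T ⟶ S) {W' : T'.Opens} (eW' : W' ≤ (a ≫ u) ⁻¹ᵁ V) (eW : a ''ᵁ W' ≤ u ⁻¹ᵁ V)
    (h : FlatAt M (a ≫ u) W' eW') : FlatAt M u (a ''ᵁ W') eW :=
  flat_transfer ((a ≫ u).appLE V W' eW').hom (u.appLE V (a ''ᵁ W') eW).hom (a.appIso W').inv.hom
    (by
      rw [← CommRingCat.hom_comp, ← Scheme.Hom.appLE_comp_appLE a u V (a ''ᵁ W') W' eW (a.preimage_image_eq W').ge,
        Category.assoc, ← Scheme.Hom.appIso_hom', Iso.hom_inv_id, Category.comp_id]) _ h

variable [IsProper f] [LocallyOfFinitePresentation f]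

/-- The criterion for a base change. -/
theorem good_iff_flat [hF : Coh.IsQCoh F] (r : ℕ) {T : Scheme.{u}} {u : T ⟶ S} {X' : Scheme.{u}} {g' : X' ⟶ X}
    {f' : X' ⟶ T} (h : IsPullback g' f' f u)
    (hcov : ∀ t : T, ∃ (V : S.Opens) (_ : Model f F V) (W : T.affineOpens) (_ : W.1 ≤ u ⁻¹ᵁ V), t ∈ W.1) :
    (Good f' ((Scheme.Modules.pullback g').obj F) r →
      (∀ (V : S.Opens) (M : Model f F V) (W : T.Opens) (_ : IsAffineOpen W) (eW : W ≤ u ⁻¹ᵁ V), FlatAt M u W eW) ∧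
        ∀ t, CohIII.fiberRank f F 0 (u t) = r) ∧
    ((∀ t : T, CohIII.fiberRank f F 0 (u t) = r ∧ ∃ (V : S.Opens) (M : Model f F V) (W : T.Opens)
        (_ : IsAffineOpen W) (eW : W ≤ u ⁻¹ᵁ V), t ∈ W ∧ FlatAt M u W eW) →
      Good f' ((Scheme.Modules.pullback g').obj F) r) := by
  haveI : IsProper f' := MorphismProperty.of_isPullback h inferInstance
  haveI : LocallyOfFinitePresentation f' := MorphismProperty.of_isPullback h inferInstance
  haveI : Coh.IsQCoh ((Scheme.Modules.pullback g').obj F) := M1.isQCoh_pullback g' hF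
  constructor
  · intro hG
    refine ⟨fun V M W hW eW => ?_, fun t => ?_⟩
    · letI := (u.appLE V W eW).hom.toAlgebra
      obtain ⟨M', hM'⟩ := exists_model_baseChange h M hW eW
      have hc : Module.Flat Γ(T, W) (FlatCxLib.Cok M'.P (-1)) := flatCok_of_univ hG.2 M'
      rw [hM'] at hc
      haveI := hc
      exact Module.Flat.of_linearEquiv (FlatCxLib.cokBaseChange Γ(T, W) M.P (-1)).symm
    · obtain ⟨V, M, W, eW, ht⟩ := hcov t
      letI := (u.appLE V W.1 eW).hom.toAlgebra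
      obtain ⟨M', -⟩ := exists_model_baseChange h M W.2 eW
      obtain ⟨U, hU, ⟨e⟩⟩ := hG.1 t
      rw [← fiberRank_eq h M W.2 eW ht]
      exact fiberRank_eq_of_free M' (flatCok_of_univ hG.2 M') ht hU e
  · intro hall
    choose hr V M W hW eW ht hflat using hall
    have hM : ∀ t, ∃ M' : Model f' ((Scheme.Modules.pullback g').obj F) (W t), M'.FlatCok (-1) := fun t => by
      letI := (u.appLE (V t) (W t) (eW t)).hom.toAlgebra
      obtain ⟨M', hM'⟩ := exists_model_baseChange h (M t) (hW t) (eW t)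
      refine ⟨M', ?_⟩
      show Module.Flat Γ(T, W t) (FlatCxLib.Cok M'.P (-1))
      rw [hM']
      haveI : Module.Flat Γ(T, W t) (Γ(T, W t) ⊗[Γ(S, V t)] FlatCxLib.Cok (M t).P (-1)) := hflat t
      exact Module.Flat.of_linearEquiv (FlatCxLib.cokBaseChange Γ(T, W t) (M t).P (-1))
    choose M' hM' using hM
    exact (good_iff r (fun t => ⟨t, ht t⟩) M').2
      ⟨hM', fun t => (fiberRank_eq h (M t) (hW t) (eW t) (ht t)).trans (hr t)⟩

variable (f F) in
/-- Models exist near every point. -/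
theorem exists_cover [Coh.IsQCoh F] (hfp : CohB1.IsFP F) (hfl : FlatMod.IsFlatOver f F) {T : Scheme.{u}}
    (u : T ⟶ S) (t : T) {O : T.Opens} (hO : t ∈ O) :
    ∃ (V : S.Opens) (_ : Model f F V) (W : T.affineOpens) (_ : W.1 ≤ u ⁻¹ᵁ V), t ∈ W.1 ∧ W.1 ≤ O := by
  obtain ⟨V, -, M, hV⟩ := exists_model_at f F hfp hfl (U := ⊤) (s := u t) trivial
  obtain ⟨W, hW, htW, hle⟩ := exists_isAffineOpen_mem_and_subset (x := t) (U := O ⊓ u ⁻¹ᵁ V) ⟨hO, hV⟩
  exact ⟨V, M, ⟨W, hW⟩, fun x hx => (hle hx).2, htW, fun x hx => (hle hx).1⟩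

variable (f F) in
/-- The property over a base scheme. -/
def Cond (r : ℕ) {T : Scheme.{u}} (u : T ⟶ S) : Prop :=
  Good (pullback.snd f u) ((Scheme.Modules.pullback (pullback.fst f u)).obj F) r

section
variable [hF : Coh.IsQCoh F] (hfp : CohB1.IsFP F) (hfl : FlatMod.IsFlatOver f F) {r : ℕ}
include hfp hfl

theorem cond_iff {T : Scheme.{u}} {u : T ⟶ S} {X' : Scheme.{u}} {g' : X' ⟶ X} {f' : X' ⟶ T}
    (h : IsPullback g' f' f u) : Cond f F r u ↔ Good f' ((Scheme.Modules.pullback g').obj F) r := by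
  have hc : ∀ t : T, ∃ (V : S.Opens) (_ : Model f F V) (W : T.affineOpens) (_ : W.1 ≤ u ⁻¹ᵁ V), t ∈ W.1 :=
    fun t => by
      obtain ⟨V, M, W, eW, h1, -⟩ := exists_cover f F hfp hfl u t (O := ⊤) trivial
      exact ⟨V, M, W, eW, h1⟩
  have key : ∀ {X'' : Scheme.{u}} {a' : X'' ⟶ X} {b' : X'' ⟶ T} (h' : IsPullback a' b' f u),
      Good b' ((Scheme.Modules.pullback a').obj F) r → ∀ t : T, CohIII.fiberRank f F 0 (u t) = r ∧
        ∃ (V : S.Opens) (M : Model f F V) (W : T.Opens) (_ : IsAffineOpen W) (eW : W ≤ u ⁻¹ᵁ V),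
          t ∈ W ∧ FlatAt M u W eW := fun h' hg t => by
    obtain ⟨hfl', hr⟩ := (good_iff_flat r h' hc).1 hg
    obtain ⟨V, M, W, eW, ht⟩ := hc t
    exact ⟨hr t, V, M, W, W.2, eW, ht, hfl' V M W W.2 eW⟩
  exact ⟨fun hg => (good_iff_flat r h hc).2 (key (IsPullback.of_hasPullback f u) hg),
    fun hg => (good_iff_flat r (IsPullback.of_hasPullback f u) hc).2 (key h hg)⟩

theorem cond_comp {T T' : Scheme.{u}} (a : T' ⟶ T) (u : T ⟶ S) (hc : Cond f F r u) : Cond f F r (a ≫ u) := by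
  have h0 : ∀ {T₀ : Scheme.{u}} (u₀ : T₀ ⟶ S) (t : T₀),
      ∃ (V : S.Opens) (_ : Model f F V) (W : T₀.affineOpens) (_ : W.1 ≤ u₀ ⁻¹ᵁ V), t ∈ W.1 := fun u₀ t => by
    obtain ⟨V, M, W, eW, h1, -⟩ := exists_cover f F hfp hfl u₀ t (O := ⊤) trivial
    exact ⟨V, M, W, eW, h1⟩
  obtain ⟨hflat, hr⟩ := (good_iff_flat r (IsPullback.of_hasPullback f u) (h0 u)).1 hc
  refine (good_iff_flat r (IsPullback.of_hasPullback f (a ≫ u)) (h0 _)).2 fun t => ⟨hr (a t), ?_⟩
  obtain ⟨V, M, W, eW, ht, -⟩ := exists_cover f F hfp hfl u (a t) (O := ⊤) trivial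
  obtain ⟨W', hW', htW', hle⟩ := exists_isAffineOpen_mem_and_subset (x := t) (U := a ⁻¹ᵁ W.1) ht
  have eW' : W' ≤ (a ≫ u) ⁻¹ᵁ V := fun x hx => eW (hle hx)
  exact ⟨V, M, W', hW', eW', htW', flatAt_comp M a u eW hle eW' (hflat V M W.1 W.2 eW)⟩

theorem cond_of_cover {T : Scheme.{u}} (u : T ⟶ S)
    (hall : ∀ t : T, ∃ (U : Scheme.{u}) (a : U ⟶ T) (_ : IsOpenImmersion a) (y : U), a y = t ∧ Cond f F r (a ≫ u)) :
    Cond f F r u := by
  have h0 : ∀ {T₀ : Scheme.{u}} (u₀ : T₀ ⟶ S) (t : T₀),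
      ∃ (V : S.Opens) (_ : Model f F V) (W : T₀.affineOpens) (_ : W.1 ≤ u₀ ⁻¹ᵁ V), t ∈ W.1 := fun u₀ t => by
    obtain ⟨V, M, W, eW, h1, -⟩ := exists_cover f F hfp hfl u₀ t (O := ⊤) trivial
    exact ⟨V, M, W, eW, h1⟩
  refine (good_iff_flat r (IsPullback.of_hasPullback f u) (h0 u)).2 fun t => ?_
  obtain ⟨U, a, ha, y, rfl, hy⟩ := hall t
  obtain ⟨hflat, hr⟩ := (good_iff_flat r (IsPullback.of_hasPullback f (a ≫ u)) (h0 _)).1 hy
  refine ⟨hr y, ?_⟩
  obtain ⟨V, M, W, eW, hyW⟩ := h0 (a ≫ u) y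
  have eI : a ''ᵁ W.1 ≤ u ⁻¹ᵁ V := by
    rintro _ ⟨z, hz, rfl⟩
    exact eW hz
  exact ⟨V, M, a ''ᵁ W.1, W.2.image_of_isOpenImmersion a, eI, ⟨y, hyW, rfl⟩,
    flatAt_image M a u eW eI (hflat V M W.1 W.2 eW)⟩

theorem cond_residue (s : S) (hs : CohIII.fiberRank f F 0 s = r) : Cond f F r (S.fromSpecResidueField s) := by
  let u := S.fromSpecResidueField s
  have hc : ∀ t, ∃ (V : S.Opens) (_ : Model f F V) (W : (Spec (S.residueField s)).affineOpens) (_ : W.1 ≤ u ⁻¹ᵁ V),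
      t ∈ W.1 := fun t => by
    obtain ⟨V, M, W, eW, h1, -⟩ := exists_cover f F hfp hfl u t (O := ⊤) trivial
    exact ⟨V, M, W, eW, h1⟩
  refine (good_iff_flat r (IsPullback.of_hasPullback f u) hc).2 fun t => ⟨?_, ?_⟩
  · rw [show u t = s from S.fromSpecResidueField_apply s t]; exact hs
  obtain ⟨V, M, W, eW, ht⟩ := hc t
  refine ⟨V, M, W.1, W.2, eW, ht, ?_⟩
  have hWt : W.1 = ⊤ := by
    haveI : Subsingleton (Spec (S.residueField s)) := inferInstanceAs (Subsingleton (PrimeSpectrum (S.residueField s)))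
    exact top_le_iff.1 fun x _ => Subsingleton.elim t x ▸ ht
  have hfield : IsField Γ(Spec (S.residueField s), W.1) := by
    rw [hWt]
    exact ((Scheme.ΓSpecIso (S.residueField s)).commRingCatIsoToRingEquiv.toMulEquiv.isField
      (Field.toIsField _))
  letI := (u.appLE V W.1 eW).hom.toAlgebra
  letI := hfield.toField
  show Module.Flat Γ(Spec (S.residueField s), W.1)
    (Γ(Spec (S.residueField s), W.1) ⊗[Γ(S, V)] FlatCxLib.Cok M.P (-1))
  haveI : Module.Free Γ(Spec (S.residueField s), W.1)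
    (Γ(Spec (S.residueField s), W.1) ⊗[Γ(S, V)] FlatCxLib.Cok M.P (-1)) := Module.Free.of_divisionRing _ _
  infer_instance

variable (r) in
/-- The representing immersion. -/
theorem exists_immersion_univ :
    ∃ (Z : Scheme.{u}) (ι : Z ⟶ S), IsImmersion ι ∧ LocallyOfFinitePresentation ι ∧ QuasiCompact ι ∧
      (∀ (T : Scheme.{u}) (u : T ⟶ S) (X' : Scheme.{u}) (g' : X' ⟶ X) (f' : X' ⟶ T), IsPullback g' f' f u →
        ((∃ z : T ⟶ Z, z ≫ ι = u) ↔ Good f' ((Scheme.Modules.pullback g').obj F) r)) ∧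
      Set.range ι = {s : S | CohIII.fiberRank f F 0 s = r} := by
  let κ : Type u := S.affineOpens
  have hst := fun k : κ => exists_stratum (r := r) (exists_model f F hfp hfl k.2).some
  choose Zk ik hik hfpk hqck hZk using hst
  have hk : ∀ (k : κ) {T : Scheme.{u}} (t : T ⟶ k.1.toScheme),
      (∃ z : T ⟶ Zk k, z ≫ ik k = t) ↔ Cond f F r (t ≫ k.1.ι) := fun k T t =>
    hZk k T t _ _ _ (IsPullback.of_hasPullback f (t ≫ k.1.ι))
  let Φ : (Over S)ᵒᵖ ⥤ Type u :=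
    { obj := fun T => ULift.{u} (PLift (Cond f F r T.unop.hom))
      map := fun {T T'} g => TypeCat.ofHom fun h => ⟨⟨by
        rw [← Over.w g.unop]
        exact cond_comp hfp hfl _ _ h.down.down⟩⟩ }
  let C : κ → OverRep16.Chart Φ := fun k =>
    { U := Over.mk (ik k ≫ k.1.ι)
      Z := ⟨⟨(hk k (ik k)).1 ⟨𝟙 _, Category.id_comp _⟩⟩⟩
      eq_of_map_eq := fun {T} a b _ => by
        haveI := hik k
        exact Over.OverMorphism.ext ((cancel_mono (ik k ≫ k.1.ι)).1 ((Over.w a).trans (Over.w b).symm))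
      exists_locus := fun T Z' => ⟨T.hom ⁻¹ᵁ k.1, fun {T'} g => ⟨fun hg => by
        have hr : Set.range T'.hom ⊆ Set.range k.1.ι := by
          rw [Scheme.Opens.range_ι]
          rintro _ ⟨y, rfl⟩
          rw [← Over.w g]
          exact hg y
        let l := IsOpenImmersion.lift k.1.ι T'.hom hr
        have hl : l ≫ k.1.ι = T'.hom := IsOpenImmersion.lift_fac _ _ _
        obtain ⟨z, hz⟩ := (hk k l).2 (by rw [hl, ← Over.w g]; exact cond_comp hfp hfl _ _ Z'.down.down)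
        exact ⟨Over.homMk z (by
          show z ≫ ik k ≫ k.1.ι = _
          rw [reassoc_of% hz, hl]), rfl⟩,
        fun ⟨a, _⟩ y => by
          show T.hom (g.left y) ∈ k.1
          rw [← Scheme.Hom.comp_apply, Over.w g, ← Over.w a]
          exact (ik k (a.left y)).2⟩⟩ }
  have hsheaf : OverRep16.IsZarSheaf Φ := fun T 𝒰 x _ =>
    ⟨⟨⟨cond_of_cover hfp hfl T.hom fun t =>
      ⟨_, 𝒰.f (𝒰.idx t), inferInstance, (𝒰.covers t).choose, (𝒰.covers t).choose_spec, (x _).down.down⟩⟩⟩,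
      fun _ => rfl, fun _ _ => rfl⟩
  obtain ⟨Z, ⟨R⟩⟩ := OverRep16.representable_of_charts hsheaf C fun T Z' t => by
    obtain ⟨V, hV, htV, -⟩ := exists_isAffineOpen_mem_and_subset (x := T.hom t) (U := (⊤ : S.Opens)) trivial
    refine ⟨⟨V, hV⟩, T.hom ⁻¹ᵁ V, htV, ?_⟩
    obtain ⟨z, hz⟩ := (hk ⟨V, hV⟩ (T.hom ∣_ V)).2 (by
      rw [morphismRestrict_ι]; exact cond_comp hfp hfl _ _ Z'.down.down)
    exact ⟨Over.homMk z (by
      show z ≫ ik ⟨V, hV⟩ ≫ V.ι = _
      rw [reassoc_of% hz, morphismRestrict_ι]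
      rfl), rfl⟩
  have hZ : ∀ {T : Scheme.{u}} (u : T ⟶ S), (∃ z : T ⟶ Z.left, z ≫ Z.hom = u) ↔ Cond f F r u := by
    intro T u
    constructor
    · rintro ⟨z, rfl⟩
      exact (R.homEquiv (Over.homMk z rfl : Over.mk (z ≫ Z.hom) ⟶ Z)).down.down
    · intro hu
      let a : Over.mk u ⟶ Z := R.homEquiv.symm ⟨⟨hu⟩⟩
      exact ⟨a.left, Over.w a⟩
  haveI hmono : Mono Z.hom := ⟨fun {T} a b hab => by
    have : (Over.homMk a rfl : Over.mk (a ≫ Z.hom) ⟶ Z) = Over.homMk b hab.symm :=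
      R.homEquiv.injective (Subsingleton.elim (α := ULift.{u} (PLift (Cond f F r (a ≫ Z.hom)))) _ _)
    exact congrArg CommaMorphism.left this⟩
  -- over every affine open it is the chart
  have hloc : ∀ k : κ, ∃ e : (Z.hom ⁻¹ᵁ k.1).toScheme ≅ Zk k, e.hom ≫ ik k = Z.hom ∣_ k.1 := fun k => by
    haveI := hik k
    obtain ⟨a, ha⟩ := (hk k (Z.hom ∣_ k.1)).2 ((hZ _).1 ⟨(Z.hom ⁻¹ᵁ k.1).ι, (morphismRestrict_ι _ _).symm⟩)
    obtain ⟨b, hb⟩ := (hZ (ik k ≫ k.1.ι)).2 ((hk k (ik k)).1 ⟨𝟙 _, Category.id_comp _⟩)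
    have hr : Set.range b ⊆ Set.range (Z.hom ⁻¹ᵁ k.1).ι := by
      rw [Scheme.Opens.range_ι]
      rintro _ ⟨y, rfl⟩
      show Z.hom (b y) ∈ k.1
      rw [← Scheme.Hom.comp_apply, hb]
      exact (ik k y).2
    let b' := IsOpenImmersion.lift _ b hr
    have hb' : b' ≫ Z.hom ∣_ k.1 = ik k := by
      rw [← cancel_mono k.1.ι, Category.assoc, morphismRestrict_ι, IsOpenImmersion.lift_fac_assoc, hb]
    haveI : Mono (Z.hom ∣_ k.1) := by
      haveI : Mono ((Z.hom ∣_ k.1) ≫ k.1.ι) := by rw [morphismRestrict_ι]; infer_instance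
      exact mono_of_mono _ k.1.ι
    exact ⟨⟨a, b', by rw [← cancel_mono (Z.hom ∣_ k.1), Category.assoc, hb', ha, Category.id_comp],
      by rw [← cancel_mono (ik k), Category.assoc, ha, hb', Category.id_comp]⟩, ha⟩
  have hsup : iSup (fun k : κ => k.1) = ⊤ := iSup_affineOpens_eq_top S
  refine ⟨Z.left, Z.hom, ?_, ?_, ?_, fun T u X' g' f' h => (hZ u).trans (cond_iff hfp hfl h), ?_⟩
  · refine IsZariskiLocalAtTarget.of_iSup_eq_top (fun k : κ => k.1) hsup fun k => ?_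
    obtain ⟨e, he⟩ := hloc k
    haveI := hik k
    rw [← he]
    infer_instance
  · refine IsZariskiLocalAtTarget.of_iSup_eq_top (fun k : κ => k.1) hsup fun k => ?_
    obtain ⟨e, he⟩ := hloc k
    haveI := hfpk k
    rw [← he]
    infer_instance
  · refine IsZariskiLocalAtTarget.of_iSup_eq_top (fun k : κ => k.1) hsup fun k => ?_
    obtain ⟨e, he⟩ := hloc k
    haveI := hqck k
    rw [← he]
    infer_instance
  · ext s
    constructor
    · rintro ⟨z, rfl⟩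
      obtain ⟨-, hr⟩ := (good_iff_flat r (IsPullback.of_hasPullback f Z.hom) fun t => (by
        obtain ⟨V, M, W, eW, h1, -⟩ := exists_cover f F hfp hfl Z.hom t (O := ⊤) trivial
        exact ⟨V, M, W, eW, h1⟩)).1 ((hZ Z.hom).1 ⟨𝟙 _, Category.id_comp _⟩)
      exact hr z
    · intro hs
      obtain ⟨z, hz⟩ := (hZ _).2 (cond_residue hfp hfl s hs)
      exact ⟨z default, by rw [← Scheme.Hom.comp_apply, hz, S.fromSpecResidueField_apply]⟩

end

end Groth.Agent.RankLoc10
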