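import Groth.Agent.Lib.RankLoc10.Triv
import Groth.Agent.Lib.AdmBlowUp4.Ideals
import Mathlib.AlgebraicGeometry.Morphisms.FinitePresentation

/-!
# Quasi-compactness of the locus of triviality
-/

set_option autoImplicit false
set_option linter.style.haveILetI false
set_option backward.isDefEq.respectTransparency false
set_option backward.isDefEq.respectTransparency.types false

universe u
open CategoryTheory CategoryTheory.Limits AlgebraicGeometry TopologicalSpace

noncomputable section

namespace Groth.Agent.RankLoc10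

open Groth.Agent.M1 Groth.Agent.P1Split

variable {X S : Scheme.{u}}

/-- The complement of the image of a closed set with quasi-compact complement is quasi-compact. -/
theorem isCompact_sdiff_image (p : X ⟶ S) [IsProper p] [LocallyOfFinitePresentation p] {V : S.Opens}
    (hV : IsAffineOpen V) {G : Set X} (hG : IsOpen G) (hc : IsCompact (G ∩ p ⁻¹' (V : Set S))) :
    IsCompact ((V : Set S) \ p '' Gᶜ) := by
  let q := p ∣_ V
  haveI : IsAffine V.toScheme := hV
  haveI : CompactSpace (p ⁻¹ᵁ V).toScheme := QuasiCompact.compactSpace_of_compactSpace q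
  haveI : QuasiSeparatedSpace (p ⁻¹ᵁ V).toScheme := quasiSeparatedSpace_of_quasiSeparated q
  let G' : Set (p ⁻¹ᵁ V).toScheme := (p ⁻¹ᵁ V).ι ⁻¹' G
  have hG' : IsCompact G' := by
    rw [(p ⁻¹ᵁ V).ι.isOpenEmbedding.isEmbedding.isCompact_iff]
    rw [Set.image_preimage_eq_inter_range, Scheme.Opens.range_ι]
    exact hc
  have hcon := q.isConstructible_image
    (Topology.isConstructible_compl.2 (hG'.isConstructible (hG.preimage (p ⁻¹ᵁ V).ι.continuous)))
  have himg := (AdmBlowUp4.isCompact_of_isConstructible (Topology.isConstructible_compl.2 hcon)).image V.ι.continuous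
  convert himg using 1
  ext s
  constructor
  · rintro ⟨hs, hn⟩
    refine ⟨⟨s, hs⟩, ?_, rfl⟩
    rintro ⟨x, hx, hxs⟩
    refine hn ⟨(p ⁻¹ᵁ V).ι x, hx, ?_⟩
    rw [← Scheme.Hom.comp_apply, ← morphismRestrict_ι, Scheme.Hom.comp_apply]
    exact congrArg V.ι hxs
  · rintro ⟨⟨s', hs'⟩, hn, rfl⟩
    refine ⟨hs', ?_⟩
    rintro ⟨x, hx, hxs⟩
    refine hn ⟨⟨x, show p x ∈ V from hxs ▸ hs'⟩, hx, V.ι.isOpenEmbedding.injective ?_⟩
    rw [← Scheme.Hom.comp_apply, morphismRestrict_ι, Scheme.Hom.comp_apply]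
    exact hxs

/-- An open is retrocompact when it is compact on a covering family of affine opens. -/
theorem quasiCompact_opens_ι (O : S.Opens)
    (h : ∀ s : S, ∃ V : S.Opens, s ∈ V ∧ ∀ W : S.Opens, IsAffineOpen W → W ≤ V → IsCompact ((W : Set S) ∩ O)) :
    QuasiCompact O.ι := by
  choose V hV hVO using h
  choose W hW hsW hle using fun s => exists_isAffineOpen_mem_and_subset (x := s) (U := V s) (hV s)
  refine IsZariskiLocalAtTarget.of_iSup_eq_top W (top_le_iff.1 fun s _ => Opens.mem_iSup.2 ⟨s, hsW s⟩) fun s => ?_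
  haveI : IsAffine (W s).toScheme := hW s
  haveI : CompactSpace (O.ι ⁻¹ᵁ W s).toScheme := isCompact_iff_compactSpace.mp (by
    rw [O.ι.isOpenEmbedding.isEmbedding.isCompact_iff]
    have := hVO s (W s) (hW s) (hle s)
    convert this using 1
    show O.ι '' (O.ι ⁻¹' (W s : Set S)) = _
    rw [Set.image_preimage_eq_inter_range, Scheme.Opens.range_ι])
  infer_instance

variable {r : ℕ} {p : X ⟶ S} {M : X.Modules}

/-- The locus of stalk bases meets every affine open in a basic open. -/
theorem isCompact_good_affine (hM : FlatMod.IsFinLocFreeOfRank r M) {W : X.Opens} (hW : IsAffineOpen W)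
    (e b : Fin r → Γ(M, W)) (hb : IsBas M W b) :
    IsCompact {x : X | ∃ hx : x ∈ W, Function.Bijective (Fintype.linearCombination (X.presheaf.stalk x)
      fun i => (M.presheaf.germ W x hx (e i) : M.presheaf.stalk x))} := by
  classical
  choose T hT using fun j => (hb W le_rfl).2 (e j)
  let d : Γ(X, W) := Matrix.det (Matrix.of fun i j => T j i)
  have hgerm : ∀ (x : X) (hx : x ∈ W) (j : Fin r), M.presheaf.germ W x hx (e j) =
      ∑ i, X.presheaf.germ W x hx (T j i) • (M.presheaf.germ W x hx (b i) : M.presheaf.stalk x) := fun x hx j => by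
    rw [← hT j]
    simp only [germ_sum_smul, mres_id]
  have hdet : ∀ (x : X) (hx : x ∈ W), (Matrix.of fun i j => X.presheaf.germ W x hx (T j i)).det =
      X.presheaf.germ W x hx d := fun x hx => (RingHom.map_det (X.presheaf.germ W x hx).hom _).symm
  have heq : {x : X | ∃ hx : x ∈ W, Function.Bijective (Fintype.linearCombination (X.presheaf.stalk x)
      fun i => (M.presheaf.germ W x hx (e i) : M.presheaf.stalk x))} = X.basicOpen d := by
    ext x
    constructor
    · rintro ⟨hx, hbij⟩
      refine (X.mem_basicOpen d x hx).2 ?_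
      rw [← hdet x hx, ← Matrix.isUnit_iff_isUnit_det, ← Matrix.mulVec_surjective_iff_isUnit]
      intro c
      let Le := Fintype.linearCombination (X.presheaf.stalk x)
        fun i => (M.presheaf.germ W x hx (b i) : M.presheaf.stalk x)
      obtain ⟨a, ha⟩ := hbij.2 (Le c)
      refine ⟨a, (hb.stalk hx).1 ?_⟩
      refine Eq.trans ?_ ha
      simp only [Fintype.linearCombination_apply, hgerm x hx, Finset.smul_sum, Matrix.mulVec, dotProduct,
        Finset.sum_smul, smul_smul, Matrix.of_apply]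
      rw [Finset.sum_comm]
      exact Finset.sum_congr rfl fun i _ => Finset.sum_congr rfl fun j _ => by rw [mul_comm]
    · intro hx
      have hxW : x ∈ W := X.basicOpen_le d hx
      exact ⟨hxW, DetDeg13.bijective_linearCombination_of_det (hb.stalk hxW)
        (Matrix.of fun i j => X.presheaf.germ W x hxW (T j i))
        (by rw [hdet x hxW]; exact (X.mem_basicOpen d x hxW).1 hx) (fun j => hgerm x hxW j)⟩
  rw [heq]
  exact (hW.basicOpen d).isCompact

/-- The locus of triviality is retrocompact. -/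
theorem quasiCompact_triv [IsProper p] [LocallyOfFinitePresentation p] (hM : FlatMod.IsFinLocFreeOfRank r M)
    (hgood : Good p M r) :
    QuasiCompact (Scheme.Opens.ι (⟨{t : S | Triv p M r t}, isOpen_setOf_triv⟩ : S.Opens)) := by
  refine quasiCompact_opens_ι _ fun s => ?_
  obtain ⟨D, e, hsD, he⟩ := exists_isBas_nhd hgood.1 s
  refine ⟨D, hsD, fun W hW hWD => ?_⟩
  let G : Set X := {x | ∃ hx : x ∈ p ⁻¹ᵁ D, Function.Bijective (Fintype.linearCombination (X.presheaf.stalk x)
    fun i => (M.presheaf.germ (p ⁻¹ᵁ D) x hx (e i) : M.presheaf.stalk x))}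
  have hG : IsOpen G := isOpen_iff_forall_mem_open.2 fun x ⟨hx, hb⟩ => by
    obtain ⟨D', hle, hxD', hbas⟩ := DetDeg13.exists_isBas_open hM e hx hb
    refine ⟨D', fun y hy => ⟨hle hy, ?_⟩, D'.2, hxD'⟩
    have := hbas.stalk hy
    simp only [germ_mres] at this
    exact this
  have hid : IsPullback (𝟙 X) p p (𝟙 S) := IsPullback.of_horiz_isIso ⟨by simp⟩
  have heq : (W : Set S) ∩ ({t : S | Triv p M r t}) = (W : Set S) \ p '' Gᶜ := by
    ext y
    constructor
    · rintro ⟨hyW, hy⟩
      refine ⟨hyW, ?_⟩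
      rintro ⟨x, hxG, rfl⟩
      exact hxG ⟨hWD hyW, bijective_germ hM hgood hid
        (hy.map_iso ((Scheme.Modules.pullbackId X).app M).symm) he (hWD hyW) x rfl⟩
    · rintro ⟨hyW, hy⟩
      refine ⟨hyW, triv_of_bijective_germ hM e (hWD hyW) fun x hx => ?_⟩
      have hxG : x ∈ G := by_contra fun hn => hy ⟨x, hn, hx⟩
      exact hxG.2
  show IsCompact ((W : Set S) ∩ {t : S | Triv p M r t})
  rw [heq]
  refine isCompact_sdiff_image p hW hG ?_
  haveI : IsAffine W.toScheme := hW
  haveI : CompactSpace (p ⁻¹ᵁ W).toScheme := QuasiCompact.compactSpace_of_compactSpace (p ∣_ W)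
  have hcpt : IsCompact (p ⁻¹' (W : Set S)) := isCompact_iff_compactSpace.mpr
    (inferInstanceAs (CompactSpace (p ⁻¹ᵁ W).toScheme))
  choose D₀ b hxD hb using exists_isBas_nhd hM
  choose A hA hxA hAle using fun x : {x : X // p x ∈ W} =>
    exists_isAffineOpen_mem_and_subset (x := x.1) (U := D₀ x.1 ⊓ p ⁻¹ᵁ W) ⟨hxD x.1, x.2⟩
  obtain ⟨F, hF⟩ := hcpt.elim_finite_subcover (fun x => (A x : Set X)) (fun x => (A x).2)
    fun x hx => Set.mem_iUnion.2 ⟨⟨x, hx⟩, hxA ⟨x, hx⟩⟩
  have heq' : G ∩ p ⁻¹' (W : Set S) = ⋃ x ∈ F, {y : X | ∃ hy : y ∈ A x,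
      Function.Bijective (Fintype.linearCombination (X.presheaf.stalk y) fun i =>
        (M.presheaf.germ (A x) y hy (mres M (fun z hz => hWD (hAle x hz).2 : A x ≤ p ⁻¹ᵁ D) (e i)) :
          M.presheaf.stalk y))} := by
    ext y
    simp only [Set.mem_iUnion, Set.mem_inter_iff, Set.mem_setOf_eq, germ_mres, exists_prop]
    constructor
    · rintro ⟨⟨hyD, hy⟩, hyW⟩
      obtain ⟨x, hxF, hyx⟩ := Set.mem_iUnion₂.1 (hF hyW)
      exact ⟨x, hxF, hyx, hy⟩
    · rintro ⟨x, -, hyx, hy⟩
      exact ⟨⟨hWD (hAle x hyx).2, hy⟩, (hAle x hyx).2⟩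
  rw [heq']
  exact F.finite_toSet.isCompact_biUnion fun x _ =>
    isCompact_good_affine hM (hA x) _ _ ((hb x.1).mres (fun z hz => (hAle x hz).1))

end Groth.Agent.RankLoc10
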