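import Groth.Agent.Lib.RankLoc10.Criterion
import Groth.Agent.Lib.LimH13.IdealSys
import Groth.Agent.Lib.QcOpenIdeal19
import Groth.Agent.Lib.PicAff14.Basic

/-!
# The stratum over an affine open with a model
-/

set_option autoImplicit false
set_option linter.style.haveILetI false
set_option backward.isDefEq.respectTransparency false
set_option backward.isDefEq.respectTransparency.types false

universe u
open CategoryTheory CategoryTheory.Limits AlgebraicGeometry TopologicalSpace
open scoped TensorProduct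

noncomputable section

namespace Groth.Agent.RankLoc10

open Groth.Agent.CBC10

/-- The Fitting stratum of a finitely presented module, with finiteness of the immersion. -/
theorem exists_immersion_fp {Y : Scheme.{u}} [IsAffine Y] {G : Y.Modules} (hG : CohB1.IsFP G) (n : ℕ) :
    ∃ (Z : Scheme.{u}) (i : Z ⟶ Y), IsImmersion i ∧ LocallyOfFinitePresentation i ∧ QuasiCompact i ∧
      ∀ (T : Scheme.{u}) (t : T ⟶ Y), (∃ g : T ⟶ Z, g ≫ i = t) ↔
        FlatMod.IsFinLocFreeOfRank n ((Scheme.Modules.pullback t).obj G) := by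
  have hM : Coh.IsQCoh G := M1.isFP_isQCoh hG
  have hFT : CohB1.IsFT G := M1.isFP_isFT hG
  let J : Y.IdealSheafData := if n = 0 then ⊥ else Fitt.sheafIdeal G (n - 1)
  let K := Fitt.sheafIdeal G n
  let W : Y.Opens := K.support.compl
  haveI : LocallyOfFinitePresentation J.subschemeι := LimH13.locallyOfFinitePresentation_subschemeι (by
    by_cases hn : n = 0
    · simp only [J, hn, if_true]; exact LimH13.ifg_bot
    · simp only [J, hn, if_false]; exact Fitting26.isFiniteType hG _)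
  haveI : CompactSpace W.toScheme := isCompact_iff_compactSpace.mp
    (QcOpenIdeal19.isCompact_of_support_eq_compl Y W K (Fitting26.isFiniteType hG _) (compl_compl _).symm)
  haveI : QuasiCompact W.ι := inferInstance
  let Z' : J.subscheme.Opens := J.subschemeι ⁻¹ᵁ W
  haveI : QuasiCompact Z'.ι := MorphismProperty.of_isPullback (isPullback_morphismRestrict J.subschemeι W)
    inferInstance
  refine ⟨Z', Z'.ι ≫ J.subschemeι, inferInstance, inferInstance, inferInstance, fun T f => ?_⟩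
  have hG₁ := M1.isQCoh_pullback f hM
  have hG₂ := M1.isFT_pullback f hFT
  have hK : Fitt.sheafIdeal ((Scheme.Modules.pullback f).obj G) n = ⊤ ↔ ∀ t, f t ∈ W := by
    rw [← Fitting26.comap_eq f hM hFT n, ← Scheme.IdealSheafData.support_eq_bot_iff,
      Scheme.IdealSheafData.support_comap, ← SetLike.coe_set_eq, Closeds.coe_bot, Closeds.coe_preimage,
      Set.eq_empty_iff_forall_notMem]
    rfl
  have hJ : (n = 0 ∨ Fitt.sheafIdeal ((Scheme.Modules.pullback f).obj G) (n - 1) = ⊥) ↔ J ≤ f.ker := by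
    rw [← Scheme.IdealSheafData.map_bot, Scheme.IdealSheafData.le_map_iff_comap_le, le_bot_iff]
    by_cases hr : n = 0
    · simp [J, hr]
    · simp only [J, hr, if_false, false_or]
      rw [← Fitting26.comap_eq f hM hFT (n - 1)]
  constructor
  · rintro ⟨g, rfl⟩
    refine RankStratum13.isFinLocFreeOfRank_of_ideals hG₁ hG₂ n (hK.2 fun t => ?_) (hJ.2 ?_)
    · exact (g t).2
    · calc J = J.subschemeι.ker := (Scheme.IdealSheafData.ker_subschemeι _).symm
        _ ≤ _ := by rw [← Category.assoc]; exact Scheme.Hom.le_ker_comp _ _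
  · intro h
    have h' := RankStratum13.eq_of_freeMod hG₁ hG₂ n h
    have hle : J.subschemeι.ker ≤ f.ker := by
      rw [Scheme.IdealSheafData.ker_subschemeι]
      exact hJ.1 (Classical.or_iff_not_imp_left.2 fun hr => (h' (n - 1)).1 (by omega))
    let g₁ := IsClosedImmersion.lift J.subschemeι f hle
    have hg₁ : g₁ ≫ J.subschemeι = f := IsClosedImmersion.lift_fac _ _ _
    have hW : ∀ t, f t ∈ W := hK.1 ((h' n).2 le_rfl)
    refine ⟨IsOpenImmersion.lift Z'.ι g₁ ?_, ?_⟩
    · rw [Scheme.Opens.range_ι]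
      rintro _ ⟨t, rfl⟩
      show J.subschemeι (g₁ t) ∈ W
      rw [← Scheme.Hom.comp_apply, hg₁]
      exact hW t
    · rw [IsOpenImmersion.lift_fac_assoc, hg₁]

section Alg

variable {A B K : Type u} [CommRing A] [CommRing B] [Algebra A B] [Field K] [Algebra A K] [Algebra B K]
  [IsScalarTower A B K]

/-- A complement of a finite projective module in a free one. -/
theorem exists_complement (P : Type u) [AddCommGroup P] [Module A P] [Module.Finite A P] [Module.Projective A P] :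
    ∃ (N : ℕ) (C : Submodule A (Fin N → A)), Module.Projective A C ∧ Module.Finite A C ∧
      Nonempty ((P × C) ≃ₗ[A] (Fin N → A)) := by
  obtain ⟨N, f, hf⟩ := Module.Finite.exists_fin' A P
  obtain ⟨g, hg⟩ := Module.projective_lifting_property f LinearMap.id hf
  have hfg : ∀ p, f (g p) = p := fun p => LinearMap.congr_fun hg p
  let e : (P × LinearMap.ker f) ≃ₗ[A] (Fin N → A) :=
    LinearEquiv.ofLinear (g.coprod (LinearMap.ker f).subtype)
      (f.prod ((LinearMap.id - g.comp f).codRestrict (LinearMap.ker f) fun v => by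
        simp [hfg]))
      (LinearMap.ext fun v => by simp)
      (LinearMap.ext fun x => by
        obtain ⟨p, c, hc⟩ := x
        have hc' : f c = 0 := LinearMap.mem_ker.1 hc
        refine Prod.ext ?_ (Subtype.ext ?_)
        · simp [hfg, hc']
        · simp [hfg, hc'])
  haveI : Module.Projective A (P × LinearMap.ker f) := Module.Projective.of_equiv e.symm
  haveI : Module.Finite A (P × LinearMap.ker f) := Module.Finite.equiv e.symm
  exact ⟨N, LinearMap.ker f,
    Module.Projective.of_split (LinearMap.inr A P _) (LinearMap.snd A P _) (LinearMap.snd_comp_inr ..),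
    Module.Finite.of_surjective (LinearMap.snd A P _) LinearMap.snd_surjective, ⟨e⟩⟩

/-- The dimension count at a point. -/
theorem finrank_aux (P : ChainComplex (ModuleCat.{u} A) ℤ) [∀ i, Module.Finite A (P.X i)]
    (C : Type u) [AddCommGroup C] [Module A C] [Module.Finite A C] {N : ℕ}
    (e : (P.X (-1) × C) ≃ₗ[A] (Fin N → A)) :
    Module.finrank K (K ⊗[A] (FlatCxLib.Cok P (-1) × (FlatCxLib.Cok P 0 × C))) =
      Module.finrank K ((CohIII.bcCx (algebraMap A K) P).homology (-((0 : ℕ) : ℤ))) + N := by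
  haveI : ∀ i, Module.Finite K ((CohIII.bcCx (algebraMap A K) P).X i) := fun i =>
    Module.Finite.equiv (FlatCxLib.extEquiv K (P.X i)).symm
  have h := FlatCxLib.finrank_homology_add (CohIII.bcCx (algebraMap A K) P)
    (p := -((0 : ℕ) : ℤ)) (q := -1) (by omega)
  have hx : Module.finrank K ↥((CohIII.bcCx (algebraMap A K) P).X (-1)) = Module.finrank K (K ⊗[A] P.X (-1)) :=
    (FlatCxLib.extEquiv K (P.X (-1))).finrank_eq
  rw [(FlatCxLib.cokBaseChange K P (-((0 : ℕ) : ℤ))).finrank_eq, (FlatCxLib.cokBaseChange K P (-1)).finrank_eq,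
    hx] at h
  haveI : Module.Free K (K ⊗[A] P.X (-1)) := Module.Free.of_divisionRing _ _
  haveI : Module.Free K (K ⊗[A] C) := Module.Free.of_divisionRing _ _
  haveI : Module.Free K (K ⊗[A] FlatCxLib.Cok P (-1)) := Module.Free.of_divisionRing _ _
  haveI : Module.Free K (K ⊗[A] FlatCxLib.Cok P 0) := Module.Free.of_divisionRing _ _
  haveI : Module.Free K (K ⊗[A] (FlatCxLib.Cok P 0 × C)) := Module.Free.of_divisionRing _ _
  have h1 : Module.finrank K (K ⊗[A] (P.X (-1))) + Module.finrank K (K ⊗[A] C) = N := by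
    rw [← Module.finrank_prod, ← (TensorProduct.prodRight A K K (P.X (-1)) C).finrank_eq,
      (e.baseChange A K).finrank_eq,
      Module.finrank_eq_card_basis ((Pi.basisFun A (Fin N)).baseChange K), Fintype.card_fin]
  have h0 : -((0 : ℕ) : ℤ) = 0 := by simp
  rw [(TensorProduct.prodRight A K K (FlatCxLib.Cok P (-1)) (FlatCxLib.Cok P 0 × C)).finrank_eq,
    Module.finrank_prod, (TensorProduct.prodRight A K K (FlatCxLib.Cok P 0) C).finrank_eq, Module.finrank_prod]
  rw [h0] at h ⊢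
  omega

end Alg

variable {X S : Scheme.{u}} {f : X ⟶ S} {F : X.Modules} [IsProper f] [LocallyOfFinitePresentation f]

/-- Where a model exists the stratum is represented by an immersion. -/
theorem exists_stratum [hF : Coh.IsQCoh F] {V : S.Opens} (M : Model f F V) (r : ℕ) :
    ∃ (Z : Scheme.{u}) (i : Z ⟶ V.toScheme), IsImmersion i ∧ LocallyOfFinitePresentation i ∧ QuasiCompact i ∧
      ∀ (T : Scheme.{u}) (t : T ⟶ V.toScheme) (X' : Scheme.{u}) (g' : X' ⟶ X) (f' : X' ⟶ T),
        IsPullback g' f' f (t ≫ V.ι) →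
          ((∃ g : T ⟶ Z, g ≫ i = t) ↔ Good f' ((Scheme.Modules.pullback g').obj F) r) := by
  classical
  haveI : ∀ i, Module.Flat Γ(S, V) (M.P.X i) := fun i => Module.Flat.of_projective
  haveI := fp_cok M.P (-1)
  haveI := fp_cok M.P 0
  haveI : Module.Flat Γ(S, V) (FlatCxLib.Cok M.P 0) := M.flatCok_zero
  obtain ⟨N, C, hCp, hCf, ⟨eC⟩⟩ := exists_complement (A := Γ(S, V)) (M.P.X (-1))
  haveI := hCp
  haveI := hCf
  haveI : Module.FinitePresentation Γ(S, V) C := Module.finitePresentation_of_projective _ _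
  let Q : ModuleCat.{u} Γ(S, V) :=
    ModuleCat.of Γ(S, V) (FlatCxLib.Cok M.P (-1) × (FlatCxLib.Cok M.P 0 × C))
  haveI : Module.FinitePresentation Γ(S, V) Q :=
    inferInstanceAs (Module.FinitePresentation Γ(S, V) (FlatCxLib.Cok M.P (-1) × (FlatCxLib.Cok M.P 0 × C)))
  haveI : IsAffine V.toScheme := M.isAffine
  let G : V.toScheme.Modules :=
    (Scheme.Modules.pullback M.isAffine.isoSpec.hom).obj (tilde (R := Γ(S, V)) Q)
  obtain ⟨Z, i, hi, hfp, hqc, hu⟩ := exists_immersion_fp (G := G)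
    (M1.isFP_pullback _ (M1.isFP_tilde (R := Γ(S, V)) Q)) (r + N)
  refine ⟨Z, i, hi, hfp, hqc, fun T t X' g' f' h => (hu T t).trans ?_⟩
  haveI : IsProper f' := MorphismProperty.of_isPullback h inferInstance
  haveI : LocallyOfFinitePresentation f' := MorphismProperty.of_isPullback h inferInstance
  haveI : Coh.IsQCoh ((Scheme.Modules.pullback g').obj F) := M1.isQCoh_pullback g' hF
  have eW : ∀ W : T.Opens, W ≤ (t ≫ V.ι) ⁻¹ᵁ V := fun W x _ => (t x).2
  choose M' hM' using fun W : T.affineOpens => exists_model_baseChange h M W.2 (eW W.1)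
  have hcov : ∀ x : T, ∃ W : T.affineOpens, x ∈ W.1 := fun x => by
    obtain ⟨W, hW, hxW, -⟩ := exists_isAffineOpen_mem_and_subset (x := x) (U := (⊤ : T.Opens)) trivial
    exact ⟨⟨W, hW⟩, hxW⟩
  rw [good_iff r hcov M']
  -- the stratum sheaf on an affine open
  have key : ∀ W : T.affineOpens,
      letI := ((t ≫ V.ι).appLE V W.1 (eW W.1)).hom.toAlgebra
      Nonempty (((Scheme.Modules.pullback t).obj G).restrict W.2.fromSpec ≅
        tilde (ModuleCat.of Γ(T, W.1) (Γ(T, W.1) ⊗[Γ(S, V)] Q))) := by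
    intro W
    have hq : (W.2.fromSpec ≫ t) ≫ M.isAffine.isoSpec.hom = Spec.map ((t ≫ V.ι).appLE V W.1 (eW W.1)) := by
      rw [← cancel_mono M.isAffine.fromSpec, IsAffineOpen.SpecMap_appLE_fromSpec, Category.assoc,
        IsAffineOpen.isoSpec_hom, IsAffineOpen.toSpecΓ_fromSpec, Category.assoc]
    exact ⟨(Scheme.Modules.restrictFunctorIsoPullback W.2.fromSpec).app _ ≪≫
      (Scheme.Modules.pullbackComp W.2.fromSpec t).app G ≪≫
      (Scheme.Modules.pullbackComp (W.2.fromSpec ≫ t) M.isAffine.isoSpec.hom).app (tilde (R := Γ(S, V)) Q) ≪≫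
      (Scheme.Modules.pullbackCongr hq).app (tilde (R := Γ(S, V)) Q) ≪≫
      M1.tildePullbackObjIso _ Q⟩
  -- dimension count
  have key₂ : ∀ (W : T.affineOpens) (U : T.Opens) (n : ℕ) (x : T) (hx : x ∈ W.1), W.1 ≤ U →
      (((Scheme.Modules.pullback t).obj G).restrict U.ι ≅ FlatMod.freeMod (↑U) n) →
        n = CohIII.fiberRank f' ((Scheme.Modules.pullback g').obj F) 0 x + N := by
    intro W U n x hx hWU e
    letI := ((t ≫ V.ι).appLE V W.1 (eW W.1)).hom.toAlgebra
    obtain ⟨b⟩ := RankStratum13.exists_basis_of_freeMod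
      (M1.isQCoh_pullback t (M1.isQCoh_pullback _ inferInstance)) e W.2 hWU
    obtain ⟨k⟩ := key W
    let l : Γ((Scheme.Modules.pullback t).obj G, W.1) ≃ₗ[Γ(T, W.1)] Γ(T, W.1) ⊗[Γ(S, V)] Q :=
      (M1.affineSecEquiv _ W.2).symm.trans
        ((moduleSpecΓFunctor.mapIso k ≪≫ (tilde.isoTop _).symm).toLinearEquiv)
    let p := W.2.primeIdealOf ⟨x, hx⟩
    let κ := p.asIdeal.ResidueField
    haveI : Nontrivial Γ(T, W.1) := p.nontrivial
    let b' := (((b.map l).reindex Equiv.ulift).baseChange κ).map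
      (TensorProduct.AlgebraTensorModule.cancelBaseChange Γ(S, V) Γ(T, W.1) κ κ Q)
    have hn : Module.finrank κ (κ ⊗[Γ(S, V)] Q) = n :=
      (Module.finrank_eq_card_basis b').trans (Fintype.card_fin n)
    rw [← hn, (M' W).fiberRank_eq inferInstance 0 ⟨x, hx⟩, hM' W]
    refine (finrank_aux (K := κ) M.P C eC).trans (congrArg (· + N) ?_)
    exact (FlatCxLib.finrank_homology_bc M.P Γ(T, W.1) κ _).symm
  constructor
  · intro hfree
    refine ⟨fun W => ?_, fun x => ?_⟩
    · letI := ((t ≫ V.ι).appLE V W.1 (eW W.1)).hom.toAlgebra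
      obtain ⟨k⟩ := key W
      have h1 : FlatMod.IsFinLocFree (((Scheme.Modules.pullback t).obj G).restrict W.2.fromSpec) :=
        M2.isFinLocFree_restrict W.2.fromSpec fun x => (hfree x).imp fun U hU => ⟨r + N, hU⟩
      haveI := M1.flat_of_isFinLocFree_tilde (R := Γ(T, W.1))
        (ModuleCat.of Γ(T, W.1) (Γ(T, W.1) ⊗[Γ(S, V)] Q)) (M2.isFinLocFree_of_iso k h1)
      haveI : Module.Flat Γ(T, W.1) (Γ(T, W.1) ⊗[Γ(S, V)] FlatCxLib.Cok M.P (-1)) :=
        Module.Flat.of_retract
          ((LinearMap.inl Γ(S, V) _ _).baseChange Γ(T, W.1) :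
            Γ(T, W.1) ⊗[Γ(S, V)] FlatCxLib.Cok M.P (-1) →ₗ[Γ(T, W.1)]
              Γ(T, W.1) ⊗[Γ(S, V)] (FlatCxLib.Cok M.P (-1) × (FlatCxLib.Cok M.P 0 × C)))
          ((LinearMap.fst Γ(S, V) _ _).baseChange Γ(T, W.1))
          (by rw [← LinearMap.baseChange_comp, LinearMap.fst_comp_inl, LinearMap.baseChange_id])
      show Module.Flat Γ(T, W.1) (FlatCxLib.Cok (M' W).P (-1))
      rw [hM' W]
      exact Module.Flat.of_linearEquiv (FlatCxLib.cokBaseChange Γ(T, W.1) M.P (-1))
    · obtain ⟨U, hxU, ⟨e⟩⟩ := hfree x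
      obtain ⟨W, hW, hxW, hWU⟩ := exists_isAffineOpen_mem_and_subset (x := x) (U := U) hxU
      have := key₂ ⟨W, hW⟩ U (r + N) x hxW hWU e
      omega
  · rintro ⟨hflat, hr⟩ x
    have hlf : FlatMod.IsFinLocFree ((Scheme.Modules.pullback t).obj G) := by
      refine DPerf.isFinLocFree_of_locally fun y => ?_
      obtain ⟨W, hyW⟩ := hcov y
      letI := ((t ≫ V.ι).appLE V W.1 (eW W.1)).hom.toAlgebra
      refine ⟨_, W.2.fromSpec, inferInstance, by rw [W.2.range_fromSpec]; exact hyW, ?_⟩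
      obtain ⟨k⟩ := key W
      haveI : Module.Flat Γ(T, W.1) (Γ(T, W.1) ⊗[Γ(S, V)] FlatCxLib.Cok M.P (-1)) := by
        have h2 : Module.Flat Γ(T, W.1) (FlatCxLib.Cok (M' W).P (-1)) := hflat W
        rw [hM' W] at h2
        haveI := h2
        exact Module.Flat.of_linearEquiv (FlatCxLib.cokBaseChange Γ(T, W.1) M.P (-1)).symm
      haveI : Module.Projective Γ(T, W.1) (Γ(T, W.1) ⊗[Γ(S, V)] FlatCxLib.Cok M.P (-1)) :=
        Module.Flat.projective_of_finitePresentation
      haveI : Module.Projective Γ(S, V) (FlatCxLib.Cok M.P 0) := Module.Flat.projective_of_finitePresentation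
      let e₁ : Γ(T, W.1) ⊗[Γ(S, V)] (FlatCxLib.Cok M.P (-1) × (FlatCxLib.Cok M.P 0 × C)) ≃ₗ[Γ(T, W.1)]
          (Γ(T, W.1) ⊗[Γ(S, V)] FlatCxLib.Cok M.P (-1)) × (Γ(T, W.1) ⊗[Γ(S, V)] (FlatCxLib.Cok M.P 0 × C)) :=
        TensorProduct.prodRight Γ(S, V) Γ(T, W.1) Γ(T, W.1) _ _
      haveI : Module.Projective Γ(T, W.1) (ModuleCat.of Γ(T, W.1) (Γ(T, W.1) ⊗[Γ(S, V)] Q)) :=
        Module.Projective.of_equiv e₁.symm
      haveI : Module.Finite Γ(T, W.1) (ModuleCat.of Γ(T, W.1) (Γ(T, W.1) ⊗[Γ(S, V)] Q)) :=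
        inferInstanceAs (Module.Finite Γ(T, W.1) (Γ(T, W.1) ⊗[Γ(S, V)] Q))
      exact M2.isFinLocFree_of_iso k.symm (DPerf.isFinLocFree_tilde (R := Γ(T, W.1))
        (M := ModuleCat.of Γ(T, W.1) (Γ(T, W.1) ⊗[Γ(S, V)] Q)))
    obtain ⟨U, n, hxU, ⟨e⟩⟩ := hlf x
    obtain ⟨W, hW, hxW, hWU⟩ := exists_isAffineOpen_mem_and_subset (x := x) (U := U) hxU
    have hn := key₂ ⟨W, hW⟩ U n x hxW hWU e
    rw [hr x] at hn
    subst hn
    exact ⟨U, hxU, ⟨e⟩⟩

end Groth.Agent.RankLoc10
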